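import Cfsg.Agent.Lib.H52.EG2
import Cfsg.Agent.Lib.H13.SylowN
import Cfsg.Agent.Lib.H13.Cores

/-! Steps in a chief series for the factorization `⟨J^G⟩ ≤ C(Z)`. -/

set_option autoImplicit false
set_option linter.unusedVariables false

universe u

namespace H8.CI

open Subgroup Cfsg H14.GF

variable {G : Type u} [Group G]

theorem cj {H : Subgroup G} {x y : G} (hx : x ∈ H) (hy : y ∈ H) : x * y * x⁻¹ ∈ H :=
  mul_mem (mul_mem hx hy) (inv_mem hx)

theorem cj' {H : Subgroup G} {x y : G} (hx : x ∈ H) (hy : y ∈ H) : x⁻¹ * y * x ∈ H :=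
  mul_mem (mul_mem (inv_mem hx) hy) hx

theorem mi {H : Subgroup G} {x y : G} (hx : x ∈ H) (hy : y ∈ H) : x * y⁻¹ ∈ H :=
  mul_mem hx (inv_mem hy)

/-- conjugation of a `2`-subgroup into a Sylow subgroup of `K` -/
theorem exists_conj_le [Finite G] {K T P : Subgroup G} (hTK : T ≤ K) (hT : IsPGroup 2 T)
    (hTi : ¬ 2 ∣ T.relIndex K) (hPK : P ≤ K) (hP : IsPGroup 2 P) :
    ∃ k ∈ K, ∀ x ∈ P, k * x * k⁻¹ ∈ T := by
  have h2p : Fact (Nat.Prime 2) := ⟨Nat.prime_two⟩
  have h1 : IsPGroup 2 (T.subgroupOf K) := hT.comap_of_injective _ K.subtype_injective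
  have h2 : IsPGroup 2 (P.subgroupOf K) := hP.comap_of_injective _ K.subtype_injective
  obtain ⟨R, hR⟩ := h2.exists_le_sylow
  obtain ⟨k, hk⟩ := MulAction.exists_smul_eq K R (h1.toSylow hTi)
  refine ⟨k, k.2, fun x hx => ?_⟩
  have h3 : (⟨x, hPK hx⟩ : K) ∈ (R : Subgroup K) := hR hx
  have h4 : k * ⟨x, hPK hx⟩ * k⁻¹ ∈ ((k • R : Sylow 2 K) : Subgroup K) := by
    rw [Sylow.coe_subgroup_smul]
    exact Subgroup.smul_mem_pointwise_smul _ (MulAut.conj k) _ h3
  rw [hk] at h4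
  exact h4

theorem mk_comm {N : Subgroup G} [N.Normal] {a b : G}
    (h : (QuotientGroup.mk a : G ⧸ N) * QuotientGroup.mk b = QuotientGroup.mk b * QuotientGroup.mk a) :
    a * b * a⁻¹ * b⁻¹ ∈ N := by
  rw [← QuotientGroup.eq_one_iff]
  have : (QuotientGroup.mk (a * b * a⁻¹ * b⁻¹) : G ⧸ N) = QuotientGroup.mk a * QuotientGroup.mk b *
    (QuotientGroup.mk a)⁻¹ * (QuotientGroup.mk b)⁻¹ := rfl
  rw [this, h]
  group

theorem lift_commuting [Finite G] (S : Sylow 2 G) {N : Subgroup G} [N.Normal] {D : Subgroup G}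
    (hD : D ≤ S) {e : G ⧸ N} (he : ∀ d ∈ D, e * (QuotientGroup.mk d) = (QuotientGroup.mk d) * e) :
    ∃ g ∈ normalizer (((S : Subgroup G) ⊓ N : Subgroup G) : Set G),
      (∀ d ∈ D, g * d * g⁻¹ * d⁻¹ ∈ (S : Subgroup G) ⊓ N) ∧ (QuotientGroup.mk g : G ⧸ N) = e := by
  have h2p : Fact (Nat.Prime 2) := ⟨Nat.prime_two⟩
  obtain ⟨x, rfl⟩ := QuotientGroup.mk_surjective e
  obtain ⟨c, hc, u, hu, rfl⟩ := H13.SylowN.frattini_mem S N x
  have hcu : (QuotientGroup.mk (c * u) : G ⧸ N) = QuotientGroup.mk u := by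
    have : (QuotientGroup.mk (c * u) : G ⧸ N) = QuotientGroup.mk c * QuotientGroup.mk u := rfl
    rw [this, (QuotientGroup.eq_one_iff c).2 hc, one_mul]
  rw [hcu] at he ⊢
  set Q : Subgroup G := (S : Subgroup G) ⊓ N with hQ
  set O1 : Subgroup G := N ⊓ normalizer (Q : Set G) with hO1
  set T : Subgroup G := D ⊔ Q with hT
  have hSQ : (S : Subgroup G) ≤ normalizer (Q : Set G) := by
    intro s hs
    rw [mem_normalizer_iff]
    intro y
    constructor
    · rintro ⟨h1, h2⟩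
      exact ⟨cj (H := (S : Subgroup G)) hs h1, Normal.conj_mem inferInstance _ h2 _⟩
    · rintro ⟨h1, h2⟩
      have e1 : y = s⁻¹ * (s * y * s⁻¹) * s := by group
      rw [e1]
      refine ⟨cj' (H := (S : Subgroup G)) hs h1, ?_⟩
      have := Normal.conj_mem (inferInstance : N.Normal) _ h2 s⁻¹
      rwa [inv_inv] at this
  have hTS : T ≤ S := sup_le hD inf_le_left
  have hQO : Q ≤ O1 := le_inf inf_le_right le_normalizer
  have hTN : T ≤ normalizer (O1 : Set G) := by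
    intro t ht
    have ht' := hSQ (hTS ht)
    rw [mem_normalizer_iff]
    intro y
    constructor
    · rintro ⟨h1, h2⟩
      exact ⟨Normal.conj_mem inferInstance _ h1 _, cj (H := normalizer (Q : Set G)) ht' h2⟩
    · rintro ⟨h1, h2⟩
      have e1 : y = t⁻¹ * (t * y * t⁻¹) * t := by group
      rw [e1]
      refine ⟨?_, cj' (H := normalizer (Q : Set G)) ht' h2⟩
      have := Normal.conj_mem (inferInstance : N.Normal) _ h1 t⁻¹
      rwa [inv_inv] at this
  set K : Subgroup G := T ⊔ O1 with hK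
  have hTi : ¬ 2 ∣ T.relIndex K := by
    have h1 : T.relIndex K = T.relIndex O1 := by
      have h1 := H13.Thompson.card_sup_mul_card_inf hTN
      have h2 : Nat.card ↥(T ⊔ O1) = Nat.card T * T.relIndex (T ⊔ O1) := by
        rw [← Subgroup.relIndex_bot_left, ← Subgroup.relIndex_bot_left,
          Subgroup.relIndex_mul_relIndex _ _ _ bot_le le_sup_left]
      have h3 : Nat.card O1 = Nat.card ↥(T ⊓ O1) * T.relIndex O1 := by
        rw [← inf_relIndex_right, ← Subgroup.relIndex_bot_left, ← Subgroup.relIndex_bot_left,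
          Subgroup.relIndex_mul_relIndex _ _ _ bot_le inf_le_right]
      rw [h2, h3] at h1
      have h5 : (Nat.card T * Nat.card ↥(T ⊓ O1)) * T.relIndex (T ⊔ O1) =
          (Nat.card T * Nat.card ↥(T ⊓ O1)) * T.relIndex O1 := by
        calc _ = Nat.card T * T.relIndex (T ⊔ O1) * Nat.card ↥(T ⊓ O1) := by ring
          _ = _ := by rw [h1]; ring
      exact Nat.eq_of_mul_eq_mul_left (Nat.mul_pos Nat.card_pos Nat.card_pos) h5
    rw [h1]
    intro h2
    have h3 : T.relIndex O1 ∣ Q.relIndex N := by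
      have h4 : T.relIndex O1 ∣ Q.relIndex O1 := relIndex_dvd_of_le_left O1 le_sup_right
      have h5 : Q.relIndex O1 ∣ Q.relIndex N := by
        have := relIndex_mul_relIndex Q O1 N hQO inf_le_left
        exact ⟨_, this.symm⟩
      exact h4.trans h5
    have h4 : Q.relIndex N = (S : Subgroup G).relIndex N := inf_relIndex_right _ _
    rw [h4] at h3
    exact S.not_dvd_index ((h2.trans h3).trans
      (H13.SylowN.index_inf_dvd (S : Subgroup G) (N := N) le_normalizer_of_normal))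
  have huK : ∀ t ∈ T, u * t * u⁻¹ ∈ K := by
    intro t ht
    have h1 : T ≤ K.comap (MulAut.conj u).toMonoidHom := by
      rw [hT, sup_le_iff]
      constructor
      · intro d hd
        change u * d * u⁻¹ ∈ K
        have h1 : u * d * u⁻¹ * d⁻¹ ∈ O1 := by
          refine ⟨mk_comm (he d hd), ?_⟩
          exact mi (H := normalizer (Q : Set G)) (cj hu (hSQ (hD hd))) (hSQ (hD hd))
        have h2 : u * d * u⁻¹ = (u * d * u⁻¹ * d⁻¹) * d := by group
        rw [h2]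
        exact mul_mem (le_sup_right (a := T) h1) (le_sup_left (b := O1) (le_sup_left (b := Q) hd))
      · intro q hq
        change u * q * u⁻¹ ∈ K
        exact le_sup_left (b := O1) (le_sup_right (a := D) ((mem_normalizer_iff.1 hu q).1 hq))
    exact h1 ht
  obtain ⟨k, hk, hk2⟩ := exists_conj_le (K := K) (T := T) (P := T.map (MulAut.conj u).toMonoidHom)
    le_sup_left (S.2.to_le hTS) hTi (by
      rintro _ ⟨t, ht, rfl⟩
      exact huK t ht) ((S.2.to_le hTS).map _)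
  have hk' : ∃ t ∈ T, ∃ o ∈ O1, t * o = k := by
    exact (H13.Norm.mem_sup_of_le_normalizer hTN).1 hk
  obtain ⟨t, ht, o, ho, rfl⟩ := hk'
  refine ⟨o * u, mul_mem ho.2 hu, fun d hd => ?_, ?_⟩
  · have hdT : d ∈ T := le_sup_left (b := Q) hd
    have h1 := hk2 (u * d * u⁻¹) ⟨d, hdT, rfl⟩
    have h2 : o * u * d * (o * u)⁻¹ ∈ T := by
      have h3 := mul_mem (mul_mem (inv_mem ht) h1) ht
      have h4 : t⁻¹ * (t * o * (u * d * u⁻¹) * (t * o)⁻¹) * t = o * u * d * (o * u)⁻¹ := by group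
      rwa [h4] at h3
    refine ⟨mi (H := (S : Subgroup G)) (hTS h2) (hD hd), ?_⟩
    apply mk_comm
    have h5 : (QuotientGroup.mk (o * u) : G ⧸ N) = QuotientGroup.mk u := by
      have : (QuotientGroup.mk (o * u) : G ⧸ N) = QuotientGroup.mk o * QuotientGroup.mk u := rfl
      rw [this, (QuotientGroup.eq_one_iff o).2 ho.1, one_mul]
    rw [h5]
    exact he d hd
  · have : (QuotientGroup.mk (o * u) : G ⧸ N) = QuotientGroup.mk o * QuotientGroup.mk u := rfl
    rw [this, (QuotientGroup.eq_one_iff o).2 ho.1, one_mul]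

/-- conjugation by elements of the normalizer -/
theorem conj_mem' {H : Subgroup G} {x y : G} (hx : x ∈ normalizer (H : Set G)) (hy : y ∈ H) :
    x * y * x⁻¹ ∈ H := (mem_normalizer_iff.1 hx y).1 hy

theorem S_le_JE [Finite G] (S : Subgroup G) : S ≤ normalizer (JE S : Set G) := by
  have h2p : Fact (Nat.Prime 2) := ⟨Nat.prime_two⟩
  refine le_normalizer.trans ?_
  rw [H52.EGr.JE_eq]
  exact H13.SylowN.normalizer_le_normalizer_thompsonOf _

theorem nrm_JE [Finite G] (S : Subgroup G) : normalizer (S : Set G) ≤ normalizer (JE S : Set G) := by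
  have h2p : Fact (Nat.Prime 2) := ⟨Nat.prime_two⟩
  rw [H52.EGr.JE_eq]
  exact H13.SylowN.normalizer_le_normalizer_thompsonOf _

theorem JE_le_C [Finite G] (S : Subgroup G) : JE S ≤ centralizer (Z1 S : Set G) := by
  intro j hj
  rw [mem_centralizer_iff]
  intro z hz
  have h1 := (H52.EGr.mem_Z1.1 hz).2.1
  rw [mem_centralizer_iff] at h1
  exact (h1 j (H52.EGr.JE_le_JH S hj)).symm

theorem two_step [Finite G] (S : Sylow 2 G) {N N1 : Subgroup G} [N.Normal] [N1.Normal] (h : N ≤ N1)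
    (hN : ∀ n ∈ N, ∀ j ∈ JE (S : Subgroup G), n * j * n⁻¹ ∈ centralizer (Z1 (S : Subgroup G) : Set G))
    {k : ℕ} (h2 : N.relIndex N1 = 2 ^ k) :
    ∀ n ∈ N1, ∀ j ∈ JE (S : Subgroup G), n * j * n⁻¹ ∈ centralizer (Z1 (S : Subgroup G) : Set G) := by
  have h2p : Fact (Nat.Prime 2) := ⟨Nat.prime_two⟩
  have hle : N1 ≤ N ⊔ ((S : Subgroup G) ⊓ N1) := by
    have h1 : (N ⊔ ((S : Subgroup G) ⊓ N1)).relIndex N1 ∣ 2 ^ k := by
      rw [← h2]
      exact relIndex_dvd_of_le_left N1 le_sup_left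
    have h3 : (N ⊔ ((S : Subgroup G) ⊓ N1)).relIndex N1 ∣ (S : Subgroup G).relIndex N1 := by
      rw [← inf_relIndex_right (S : Subgroup G) N1]
      exact relIndex_dvd_of_le_left N1 le_sup_right
    have h4 : ¬ 2 ∣ (N ⊔ ((S : Subgroup G) ⊓ N1)).relIndex N1 := by
      intro h5
      exact S.not_dvd_index ((h5.trans h3).trans
        (H13.SylowN.index_inf_dvd (S : Subgroup G) (N := N1) le_normalizer_of_normal))
    obtain ⟨m, hm, hm2⟩ := (Nat.dvd_prime_pow Nat.prime_two).1 h1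
    rw [← relIndex_eq_one, hm2]
    rcases Nat.eq_zero_or_pos m with rfl | hm0
    · rfl
    · exfalso
      apply h4
      rw [hm2]
      exact dvd_pow_self 2 hm0.ne'
  intro n1 hn1 j hj
  have h3 := hle hn1
  rw [H13.Norm.mem_sup_of_le_normalizer' le_normalizer_of_normal] at h3
  obtain ⟨n, hn, s, hs, rfl⟩ := h3
  have h4 := hN n hn (s * j * s⁻¹) (conj_mem' (S_le_JE _ hs.1) hj)
  have h5 : n * s * j * (n * s)⁻¹ = n * (s * j * s⁻¹) * n⁻¹ := by group
  rw [h5]
  exact h4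

theorem lift_step [Finite G] (S : Sylow 2 G) {N N1 : Subgroup G} [N.Normal] [N1.Normal] (h : N ≤ N1)
    (hN : ∀ n ∈ N, ∀ j ∈ JE (S : Subgroup G), n * j * n⁻¹ ∈ centralizer (Z1 (S : Subgroup G) : Set G))
    (hU : ∀ u ∈ N1, u ∈ normalizer (((S : Subgroup G) ⊓ N : Subgroup G) : Set G) →
      ∀ j ∈ JE (S : Subgroup G), u * j * u⁻¹ ∈ centralizer (Z1 (S : Subgroup G) : Set G)) :
    ∀ n ∈ N1, ∀ j ∈ JE (S : Subgroup G), n * j * n⁻¹ ∈ centralizer (Z1 (S : Subgroup G) : Set G) := by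
  have h2p : Fact (Nat.Prime 2) := ⟨Nat.prime_two⟩
  set C : Subgroup G := centralizer (Z1 (S : Subgroup G) : Set G) with hC
  set J : Subgroup G := JE (S : Subgroup G) with hJ
  set Q : Subgroup G := (S : Subgroup G) ⊓ N with hQ
  set U : Subgroup G := N1 ⊓ normalizer (Q : Set G) with hUd
  set Y : Subgroup G := closure {y : G | ∃ u ∈ U, ∃ j ∈ J, y = u * j * u⁻¹} with hY
  have hYC : Y ≤ C := by
    rw [hY, closure_le]
    rintro _ ⟨u, hu, j, hj, rfl⟩
    exact hU u hu.1 hu.2 j hj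
  have hSQ : (S : Subgroup G) ≤ normalizer (Q : Set G) := by
    intro s hs
    rw [mem_normalizer_iff]
    intro y
    constructor
    · rintro ⟨h1, h2⟩
      exact ⟨cj (H := (S : Subgroup G)) hs h1, Normal.conj_mem inferInstance _ h2 _⟩
    · rintro ⟨h1, h2⟩
      have e1 : y = s⁻¹ * (s * y * s⁻¹) * s := by group
      rw [e1]
      refine ⟨cj' (H := (S : Subgroup G)) hs h1, ?_⟩
      have := Normal.conj_mem (inferInstance : N.Normal) _ h2 s⁻¹
      rwa [inv_inv] at this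
  set H : Subgroup G := U ⊔ (S : Subgroup G) with hH
  have hJS : J ≤ S := H52.EGr.JE_le _
  have hJY : J ≤ Y := fun j hj => subset_closure ⟨1, one_mem _, j, hj, by simp⟩
  have hYH : Y ≤ H := by
    rw [hY, closure_le]
    rintro _ ⟨u, hu, j, hj, rfl⟩
    have hu' : u ∈ H := le_sup_left (b := (S : Subgroup G)) hu
    exact mul_mem (mul_mem hu' (le_sup_right (a := U) (hJS hj))) (inv_mem hu')
  have hnY : ∀ x : G, (∀ u ∈ U, ∀ j ∈ J, x * (u * j * u⁻¹) * x⁻¹ ∈ Y) → ∀ y ∈ Y, x * y * x⁻¹ ∈ Y := by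
    intro x hx
    have h1 : Y ≤ Y.comap (MulAut.conj x).toMonoidHom := by
      conv_lhs => rw [hY]
      rw [closure_le]
      rintro _ ⟨u, hu, j, hj, rfl⟩
      exact hx u hu j hj
    exact fun y hy => h1 hy
  have hnrm : ∀ (L : Subgroup G), (∀ x ∈ L, ∀ u ∈ U, ∀ j ∈ J, x * (u * j * u⁻¹) * x⁻¹ ∈ Y) →
      L ≤ normalizer (Y : Set G) := by
    intro L hL x hx
    rw [mem_normalizer_iff]
    intro y
    constructor
    · exact hnY x (hL x hx) y
    · intro hy
      have h1 := hnY x⁻¹ (hL x⁻¹ (inv_mem hx)) _ hy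
      have e1 : x⁻¹ * (x * y * x⁻¹) * x⁻¹⁻¹ = y := by group
      rwa [e1] at h1
  have hHY : H ≤ normalizer (Y : Set G) := by
    rw [hH, sup_le_iff]
    constructor
    · apply hnrm
      intro x hx u hu j hj
      exact subset_closure ⟨x * u, mul_mem hx hu, j, hj, by group⟩
    · apply hnrm
      intro x hx u hu j hj
      refine subset_closure ⟨x * u * x⁻¹, ⟨Normal.conj_mem inferInstance _ hu.1 _, ?_⟩, x * j * x⁻¹,
        conj_mem' (S_le_JE _ hx) hj, by group⟩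
      exact cj (H := normalizer (Q : Set G)) (hSQ hx) hu.2
  have hfr : ∀ x ∈ H, ∃ y ∈ Y, ∃ t ∈ normalizer (J : Set G), x = y * t := by
    intro x hx
    have hYn : (Y.subgroupOf H).Normal := (normal_subgroupOf_iff_le_normalizer hYH).2 hHY
    obtain ⟨c, hc, n, hn, hcn⟩ := H13.SylowN.frattini_mem (S.subtype (le_sup_right : (S : Subgroup G) ≤ H))
      (Y.subgroupOf H) ⟨x, hx⟩
    refine ⟨c, hc, n, ?_, congrArg Subtype.val hcn⟩
    have h1 : J ≤ (S : Subgroup G) ⊓ Y := le_inf hJS hJY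
    rw [hJ, ← H52.EGr.JE_eq_of_le h1 inf_le_left]
    apply nrm_JE
    rw [mem_normalizer_iff]
    rw [mem_normalizer_iff] at hn
    have hSH : (S : Subgroup G) ≤ H := le_sup_right
    intro y
    constructor
    · intro hy
      exact (hn ⟨y, hSH hy.1⟩).1 hy
    · intro hy
      have hyH : y ∈ H := by
        have e1 : y = (n : G)⁻¹ * ((n : G) * y * (n : G)⁻¹) * n := by group
        rw [e1]
        exact mul_mem (mul_mem (inv_mem n.2) (hSH hy.1)) n.2
      exact (hn ⟨y, hyH⟩).2 hy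
  intro n1 hn1 j hj
  obtain ⟨c, hc, u, hu, rfl⟩ := H13.SylowN.frattini_mem S N n1
  have hu1 : u ∈ N1 := by
    have h1 := mul_mem (inv_mem (h hc)) hn1
    have e1 : c⁻¹ * (c * u) = u := by group
    rwa [e1] at h1
  have huU : u ∈ U := ⟨hu1, hu⟩
  obtain ⟨y, hy, t, ht, rfl⟩ := hfr u (le_sup_left (b := (S : Subgroup G)) huU)
  have hn : (t * ((y * t)⁻¹ * c * (y * t)) * t⁻¹) ∈ N := by
    refine Normal.conj_mem inferInstance _ ?_ _
    have := Normal.conj_mem (inferInstance : N.Normal) _ hc (y * t)⁻¹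
    rwa [inv_inv] at this
  have h3 := hN _ hn (t * j * t⁻¹) (conj_mem' ht hj)
  have h4 := mul_mem (mul_mem (hYC hy) h3) (inv_mem (hYC hy))
  have e2 : y * (t * ((y * t)⁻¹ * c * (y * t)) * t⁻¹ * (t * j * t⁻¹) * (t * ((y * t)⁻¹ * c * (y * t)) * t⁻¹)⁻¹) *
      y⁻¹ = c * (y * t) * j * (c * (y * t))⁻¹ := by group
  rwa [e2] at h4

theorem chief_induction [Finite G] (S : Sylow 2 G)
    (hstep : ∀ N N1 : Subgroup G, N.Normal → N1.Normal → pCore 2 G ≤ N → N < N1 →
      (∀ K : Subgroup G, K.Normal → N ≤ K → K ≤ N1 → K = N ∨ K = N1) →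
      (∀ n ∈ N, ∀ j ∈ JE (S : Subgroup G), n * j * n⁻¹ ∈ centralizer (Z1 (S : Subgroup G) : Set G)) →
      ∀ n ∈ N1, ∀ j ∈ JE (S : Subgroup G), n * j * n⁻¹ ∈ centralizer (Z1 (S : Subgroup G) : Set G)) :
    ∀ g : G, ∀ j ∈ JE (S : Subgroup G), g * j * g⁻¹ ∈ centralizer (Z1 (S : Subgroup G) : Set G) := by
  have h2p : Fact (Nat.Prime 2) := ⟨Nat.prime_two⟩
  let P : Subgroup G → Prop := fun N => N.Normal ∧ pCore 2 G ≤ N ∧
    ∀ n ∈ N, ∀ j ∈ JE (S : Subgroup G), n * j * n⁻¹ ∈ centralizer (Z1 (S : Subgroup G) : Set G)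
  have hbase : P (pCore 2 G) := by
    refine ⟨inferInstance, le_rfl, fun n hn j hj => ?_⟩
    have hnS : n ∈ (S : Subgroup G) := H13.Cores.pCore_le_sylow S hn
    exact JE_le_C _ (conj_mem' (S_le_JE _ hnS) hj)
  obtain ⟨N, hNmax⟩ := (Set.toFinite {N : Subgroup G | P N}).exists_maximal ⟨_, hbase⟩
  obtain ⟨hNn, hNp, hNc⟩ := hNmax.prop
  by_cases htop : N = ⊤
  · intro g
    exact hNc g (htop ▸ mem_top g)
  · exfalso
    have hne : {K : Subgroup G | K.Normal ∧ N < K}.Nonempty :=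
      ⟨⊤, inferInstance, lt_top_iff_ne_top.2 htop⟩
    obtain ⟨N1, hN1min⟩ := (Set.toFinite {K : Subgroup G | K.Normal ∧ N < K}).exists_minimal hne
    obtain ⟨hN1n, hN1⟩ := hN1min.prop
    have h1 : P N1 := by
      refine ⟨hN1n, hNp.trans hN1.le, hstep N N1 hNn hN1n hNp hN1 ?_ hNc⟩
      intro K hKn h1 h2
      by_cases h3 : K = N
      · exact Or.inl h3
      · right
        exact le_antisymm h2 (hN1min.le_of_le ⟨hKn, lt_of_le_of_ne h1 (Ne.symm h3)⟩ h2)
    exact absurd (hNmax.le_of_ge h1 hN1.le) (not_le_of_gt hN1)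

end H8.CI
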