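import Cfsg.Agent.Lib.H8.CAF3
import Cfsg.Agent.Lib.H81.CaKill

/-!
# S4369 piece F3, final form
-/

set_option autoImplicit false

namespace H8.CAF3

open Subgroup Cfsg H4.CA H4.CAA

universe u

theorem gamma3 {G : Type u} [Group G] [Finite G] (h : Frame G)
    (S : Sylow 2 G) (hS : ∀ a ∈ S, ∀ b ∈ S, Commute a b) (hp : commutator G = ⊤)
    (hz : ∀ z ∈ center G, (∃ k : ℕ, z ^ 2 ^ k = 1) → z = 1)
    (hC : ∀ t : G, orderOf t = 2 → Group.IsSolvable (centralizer ({t} : Set G))) :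
    ∃ (F : Type) (_ : Field F) (_ : Fintype F),
      (Fintype.card F % 8 = 3 ∨ Fintype.card F % 8 = 5) ∧ 5 ≤ Fintype.card F ∧
        Nonempty (G ⧸ center G ≃* Matrix.ProjectiveSpecialLinearGroup (Fin 2) F) :=
  gamma3' h (fun _ hx hab => H81.Ca.kill h hx hab) S hS hp hz hC

end H8.CAF3
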