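import Cfsg.Agent.Lib.H69.IC0
import Cfsg.Agent.Lib.H27.LBalTwo

/-! S1315, piece P3: components of the centralizer of an involution modulo the core lift. -/

set_option autoImplicit false
set_option linter.unusedSectionVars false

open Subgroup Cfsg H26.Basic H26.Components H26.PxQ H26.GenFitting H26.LocalFitting H26.CompNorm
  H26.PComponents H26.OPPrime H37.PCOf H69.IC
open scoped commutatorElement Pointwise

universe u

namespace H8.IcP3

variable {G : Type u} [Group G] [Finite G]

local instance instFactTwo : Fact (Nat.Prime 2) := ⟨Nat.prime_two⟩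

theorem cent_zpowers (t : G) : centralizer ((zpowers t : Subgroup G) : Set G) = centralizer ({t} : Set G) := by
  rw [zpowers_eq_closure, centralizer_closure]

theorem cent_map {t : G} (ht : t * t = 1) :
    centralizer ({(QuotientGroup.mk' (pPrimeCore 2 G)) t} : Set (G ⧸ pPrimeCore 2 G)) =
      (centralizer ({t} : Set G)).map (QuotientGroup.mk' (pPrimeCore 2 G)) := by
  set O := pPrimeCore 2 G with hO
  set π := QuotientGroup.mk' O with hπ
  have hOc : (Nat.card O).Coprime 2 := H1.Cores.coprime_card_pPrimeCore 2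
  have hT : IsPGroup 2 (zpowers t) := by
    intro x
    refine ⟨1, ?_⟩
    obtain ⟨k, hk⟩ := mem_zpowers_iff.1 x.2
    apply Subtype.ext
    rw [pow_one, Subgroup.coe_pow, ← hk, ← zpow_natCast, ← zpow_mul, mul_comm, zpow_mul]
    rw [zpow_natCast, pow_two, ht, one_zpow]
    rfl
  have h1 := H1.Coprime.map_inf_centralizer (zpowers t) ⊤ O (by rw [Subgroup.normalizer_eq_top]; exact le_top)
      (H1.Cores.coprime_card_of_isPGroup hT hOc) (Or.inl (by
        have := hT.isNilpotent
        infer_instance)) le_top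
  rw [Subgroup.map_top_of_surjective _ (QuotientGroup.mk'_surjective O), top_inf_eq,
      top_inf_eq] at h1
  rw [cent_zpowers, MonoidHom.map_zpowers, cent_zpowers] at h1
  exact h1

theorem lift {t : G} (ht : t * t = 1) {D : Subgroup (G ⧸ pPrimeCore 2 G)}
    (hD : IsPComponentOf 2 D (centralizer ({(QuotientGroup.mk' (pPrimeCore 2 G)) t} : Set _))) :
    ∃ E : Subgroup G, IsPComponentOf 2 E (centralizer ({t} : Set G)) ∧
      E.map (QuotientGroup.mk' (pPrimeCore 2 G)) = D := by
  rw [cent_map ht] at hD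
  set O := pPrimeCore 2 G with hO
  set π := QuotientGroup.mk' O with hπ
  set Y := centralizer ({t} : Set G) with hY
  have hOc : (Nat.card O).Coprime 2 := H1.Cores.coprime_card_pPrimeCore 2
  obtain ⟨hsn, hqs⟩ := pcOf_iff.mp hD
  set E₀ := Y ⊓ D.comap π with hE₀
  have hE₀map : E₀.map π = D := by
    apply le_antisymm
    · rintro _ ⟨x, hx, rfl⟩
      exact hx.2
    · intro d hd
      obtain ⟨y, hy, rfl⟩ := hsn.1 hd
      exact ⟨y, ⟨hy, hd⟩, rfl⟩
  have hsn₀ : SN E₀ Y := by
    refine ⟨inf_le_left, ?_⟩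
    have h1 := hsn.2.comap (π.subgroupMap Y)
    have h2 : (D.subgroupOf (Y.map π)).comap (π.subgroupMap Y) = E₀.subgroupOf Y := by
      ext x
      constructor
      · intro hx
        exact ⟨x.2, hx⟩
      · intro hx
        exact hx.2
    rwa [h2] at h1
  have hEmap : (opp 2 E₀).map π = D := by
    rw [map_opp, hE₀map, hqs.2]
  refine ⟨opp 2 E₀, pcOf_iff.mpr ⟨(SN.of_normal (opp_le _ _) (le_normalizer_opp 2 E₀)).trans hsn₀, ?_,
    opp_opp 2 E₀⟩, hEmap⟩
  set E := opp 2 E₀ with hE
  have hqs' : IsQuasisimple (↥(E.map π) ⧸ pPrimeCore 2 ↥(E.map π)) :=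
    (map_equiv_quasisimple_quotient 2 (MulEquiv.subgroupCongr hEmap)).mpr hqs.1
  set f := π.subgroupMap E with hf
  have hfs : Function.Surjective f := π.subgroupMap_surjective E
  have hk : (Nat.card f.ker).Coprime 2 := by
    have h1 : f.ker.map E.subtype ≤ O := by
      rintro _ ⟨x, hx, rfl⟩
      have h2 : ((f x : E.map π) : G ⧸ O) = 1 := by
        rw [MonoidHom.mem_ker.mp hx]; rfl
      exact (QuotientGroup.eq_one_iff _).mp h2
    rw [← card_map_of_injective E.subtype_injective]
    exact Nat.Coprime.coprime_dvd_left (card_dvd_of_le h1) hOc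
  have h1 := H13.CoresQuot.comap_pPrimeCore (p := 2) hfs hk
  let g : E →* (↥(E.map π) ⧸ pPrimeCore 2 ↥(E.map π)) :=
    (QuotientGroup.mk' (pPrimeCore 2 ↥(E.map π))).comp f
  have hg : Function.Surjective g := (QuotientGroup.mk'_surjective _).comp hfs
  have hgk : g.ker = pPrimeCore 2 E := by
    rw [← h1]
    ext x
    rw [MonoidHom.mem_ker, mem_comap]
    exact QuotientGroup.eq_one_iff _
  exact (H26.Quasisimple.mulEquiv_iff ((QuotientGroup.quotientMulEquivOfEq hgk.symm).trans
    (QuotientGroup.quotientKerEquivOfSurjective g hg))).mpr hqs'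

end H8.IcP3
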