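import Cfsg.Agent.Lib.H4.CAA
import Cfsg.Agent.Lib.H77.CaPsl
import Cfsg.Agent.Lib.H18.CA2
import Cfsg.Agent.S0205
import Cfsg.Agent.S3188

/-!
# S4369 piece F3: abelian Sylow 2-subgroups, perfect case
-/

set_option autoImplicit false
set_option maxHeartbeats 400000

namespace H8.CAF3

open Subgroup Cfsg H4.CA H4.CAA

universe u

variable {G : Type u} [Group G]

theorem not_solv_quot (h : MN G) : ¬ Group.IsSolvable (G ⧸ center G) := by
  intro hs
  apply h.ns
  have hc : Group.IsSolvable (center G) :=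
    Group.isSolvable_of_comm (fun a b => Subtype.ext (((Subgroup.mem_center_iff.1 a.2) b).symm))
  exact Group.isSolvable_of_ker_le_range (center G).subtype (QuotientGroup.mk' (center G))
    (by simp)

theorem simple_of_perfect (h : Frame G) (hp : commutator G = ⊤) :
    IsSimpleGroup (G ⧸ center G) := by
  have hnt : Nontrivial (G ⧸ center G) := by
    by_contra hn
    rw [not_nontrivial_iff_subsingleton] at hn
    exact not_solv_quot h.toMN (Group.isSolvable_of_comm (fun a b => Subsingleton.elim _ _))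
  refine ⟨fun N hN => ?_⟩
  obtain ⟨x, hx⟩ := h.bad
  set M := N.comap (QuotientGroup.mk' (center G)) with hM
  have hMn : M.Normal := hN.comap _
  by_cases hT : M = ⊤
  · right
    rw [eq_top_iff]
    intro y _
    obtain ⟨g, rfl⟩ := QuotientGroup.mk'_surjective _ y
    have : g ∈ M := by rw [hT]; exact mem_top g
    exact this
  by_cases hZ : M ≤ center G
  · left
    rw [eq_bot_iff]
    intro y hy
    obtain ⟨g, rfl⟩ := QuotientGroup.mk'_surjective _ y
    have h1 : g ∈ M := hy
    rw [Subgroup.mem_bot, QuotientGroup.mk'_apply, QuotientGroup.eq_one_iff]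
    exact hZ h1
  · exfalso
    have h1 := h.cyc M hMn hT hZ x hx
    have h2 : commutator G ≤ M :=
      hMn.commutator_le_of_self_sup_commutative_eq_top h1 inferInstance
    rw [hp, top_le_iff] at h2
    exact hT h2

/-- centralizer of an involution modulo a center of odd order -/
theorem cent_bar (hz : ∀ z ∈ center G, (∃ k : ℕ, z ^ 2 ^ k = 1) → z = 1)
    (hC : ∀ t : G, orderOf t = 2 → Group.IsSolvable (centralizer ({t} : Set G))) [Finite G]
    (t : G ⧸ center G) (ht : orderOf t = 2) :
    Group.IsSolvable (centralizer ({t} : Set (G ⧸ center G))) := by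
  obtain ⟨t₀, rfl⟩ := QuotientGroup.mk'_surjective _ t
  -- lift to an involution
  have h1 : t₀ ^ 2 ∈ center G := by
    rw [← QuotientGroup.eq_one_iff, QuotientGroup.mk_pow]
    have := pow_orderOf_eq_one (QuotientGroup.mk' (center G) t₀)
    rw [ht] at this
    exact this
  obtain ⟨a, m, hm, hym⟩ := Nat.exists_eq_pow_mul_and_not_dvd (orderOf_pos (t₀ ^ 2)).ne' 2
    (by norm_num)
  have h2 : (t₀ ^ 2) ^ m = 1 := by
    apply hz _ (pow_mem h1 m)
    refine ⟨a, ?_⟩
    rw [← pow_mul, mul_comm m, ← hym, pow_orderOf_eq_one]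
  have hodd : Odd m := by rwa [← Nat.not_even_iff_odd, even_iff_two_dvd]
  obtain ⟨j, hj⟩ := hodd
  have h3 : QuotientGroup.mk' (center G) (t₀ ^ m) = QuotientGroup.mk' (center G) t₀ := by
    rw [hj, pow_succ, pow_mul, map_mul, map_pow]
    have : QuotientGroup.mk' (center G) (t₀ ^ 2) = 1 := by
      rw [QuotientGroup.mk'_apply, QuotientGroup.eq_one_iff]; exact h1
    rw [this, one_pow, one_mul]
  have h4 : orderOf (t₀ ^ m) = 2 := by
    apply orderOf_eq_prime
    · rw [← pow_mul, mul_comm, pow_mul, h2]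
    · intro h
      rw [← h3, h, map_one, orderOf_one] at ht
      omega
  have hsol := hC _ h4
  rw [← h3]
  set s := t₀ ^ m with hs
  have hs2 : s * s = 1 := by
    rw [← pow_two, ← h4]; exact pow_orderOf_eq_one s
  let f : centralizer ({s} : Set G) →* centralizer ({QuotientGroup.mk' (center G) s} : Set (G ⧸ center G)) :=
    ((QuotientGroup.mk' (center G)).comp (centralizer ({s} : Set G)).subtype).codRestrict _ (by
      intro y
      rw [mem_centralizer_singleton_iff]
      have := mem_centralizer_singleton_iff.1 y.2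
      change (QuotientGroup.mk' (center G)) (y : G) * _ = _ * (QuotientGroup.mk' (center G)) (y : G)
      rw [← map_mul, ← map_mul, this])
  have hf : Function.Surjective f := by
    rintro ⟨y, hy⟩
    obtain ⟨g, rfl⟩ := QuotientGroup.mk'_surjective _ y
    rw [mem_centralizer_singleton_iff] at hy
    have h5 : s⁻¹ * (g * s * g⁻¹) ∈ center G := by
      rw [← QuotientGroup.eq_one_iff, ← QuotientGroup.mk'_apply, map_mul, map_mul, map_mul,
        map_inv, map_inv, hy]
      group
    have h6 : s⁻¹ * (g * s * g⁻¹) = 1 := by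
      apply hz _ h5
      refine ⟨1, ?_⟩
      have hc := Subgroup.mem_center_iff.1 h5 s
      have h7 : g * s * g⁻¹ = s * (s⁻¹ * (g * s * g⁻¹)) := by group
      have h8 : (g * s * g⁻¹) * (g * s * g⁻¹) = 1 := by
        calc (g * s * g⁻¹) * (g * s * g⁻¹) = g * (s * s) * g⁻¹ := by group
          _ = 1 := by rw [hs2]; group
      set z := s⁻¹ * (g * s * g⁻¹) with hzdef
      rw [h7] at h8
      rw [pow_one, pow_two]
      calc z * z = (s * s) * (z * z) := by rw [hs2, one_mul]
        _ = s * (s * z) * z := by group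
        _ = s * (z * s) * z := by rw [hc]
        _ = s * z * (s * z) := by group
        _ = 1 := h8
    refine ⟨⟨g, ?_⟩, rfl⟩
    rw [mem_centralizer_singleton_iff]
    have h7 : g * s * g⁻¹ = s := (inv_mul_eq_one.1 h6).symm
    calc g * s = (g * s * g⁻¹) * g := by group
      _ = s * g := by rw [h7]
  exact Group.isSolvable_of_surjective hf

/-- simple groups with abelian Sylow 2-subgroups and solvable centralizers of involutions -/
theorem simple_ab (G : Type u) [Group G] [Finite G]
    [IsSimpleGroup G] (hns : ¬ Group.IsSolvable G) (S : Sylow 2 G)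
    (hS : IsMulCommutative ↥(S : Subgroup G))
    (hC : ∀ t : G, orderOf t = 2 → Group.IsSolvable ↥(Subgroup.centralizer ({t} : Set G))) :
    ∃ (F : Type) (_ : Field F) (_ : Fintype F),
        (((Fintype.card F % 8 = 3 ∨ Fintype.card F % 8 = 5) ∧ 5 ≤ Fintype.card F) ∨
          (∃ n : ℕ, 2 ≤ n ∧ Fintype.card F = 2 ^ n)) ∧
        Nonempty (G ≃* Matrix.ProjectiveSpecialLinearGroup (Fin 2) F) := by
  have h2 : Fact (Nat.Prime 2) := ⟨Nat.prime_two⟩
  rcases Cfsg.Agent.S3188.result S hS hC with h | ⟨F, iF, iFf, hF, N, hN, ⟨e⟩, hcen⟩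
  · exact (hns h).elim
  refine ⟨F, iF, iFf, hF, ?_⟩
  have hcore : oddCore G = ⊥ := by
    rcases (inferInstance : (oddCore G).Normal).eq_bot_or_eq_top with h | h
    · exact h
    · exfalso
      apply hns
      apply Cfsg.Agent.S0205.result
      have h3 := H1.Cores.coprime_card_pPrimeCore (G := G) 2
      have h4 : Nat.card (oddCore G) = Nat.card G := by rw [h, Subgroup.card_top]
      rw [← h4]
      exact (Nat.coprime_two_right).mp h3
  have e1 : G ≃* G ⧸ oddCore G :=
    (QuotientGroup.quotientBot (G := G)).symm.trans (QuotientGroup.quotientMulEquivOfEq hcore.symm)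
  have hN' : (N.comap e1.toMonoidHom) = ⊤ := by
    rcases (hN.comap e1.toMonoidHom).eq_bot_or_eq_top with h | h
    · exfalso
      have h5 : N = ⊥ := by
        rw [eq_bot_iff]
        intro x hx
        have h6 : e1.symm x ∈ N.comap e1.toMonoidHom := by
          rw [Subgroup.mem_comap]
          show e1 (e1.symm x) ∈ N
          rw [MulEquiv.apply_symm_apply]; exact hx
        rw [h, Subgroup.mem_bot] at h6
        rw [Subgroup.mem_bot, ← e1.apply_symm_apply x, h6, map_one]
      rw [h5] at hcen
      have h7 : ∀ g : G, g = 1 := by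
        intro g
        have h8 : e1 g ∈ Subgroup.centralizer ((⊥ : Subgroup (G ⧸ oddCore G)) : Set (G ⧸ oddCore G)) := by
          rw [Subgroup.mem_centralizer_iff]
          intro y hy
          have : y = 1 := Subgroup.mem_bot.1 hy
          rw [this, one_mul, mul_one]
        rw [hcen, Subgroup.mem_bot] at h8
        exact (map_eq_one_iff e1 e1.injective).1 h8
      apply hns
      exact Group.isSolvable_of_comm (fun a b => by rw [h7 a, h7 b])
    · exact h
  have hNtop : N = ⊤ := by
    rw [eq_top_iff]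
    intro x _
    have h6 : e1.symm x ∈ N.comap e1.toMonoidHom := by rw [hN']; exact Subgroup.mem_top _
    rw [Subgroup.mem_comap] at h6
    have h7 : e1 (e1.symm x) ∈ N := h6
    rwa [MulEquiv.apply_symm_apply] at h7
  subst hNtop
  exact ⟨e1.trans (Subgroup.topEquiv.symm.trans e)⟩

/-- `gamma3` with the KILL lemma as a hypothesis -/
theorem gamma3' [Finite G] (h : Frame G)
    (kill : ∀ x : G, Bad x →
      IsMulCommutative (centralizer ({(x : G ⧸ center G)} : Set (G ⧸ center G))) → False)
    (S : Sylow 2 G) (hS : ∀ a ∈ S, ∀ b ∈ S, Commute a b) (hp : commutator G = ⊤)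
    (hz : ∀ z ∈ center G, (∃ k : ℕ, z ^ 2 ^ k = 1) → z = 1)
    (hC : ∀ t : G, orderOf t = 2 → Group.IsSolvable (centralizer ({t} : Set G))) :
    ∃ (F : Type) (_ : Field F) (_ : Fintype F),
      (Fintype.card F % 8 = 3 ∨ Fintype.card F % 8 = 5) ∧ 5 ≤ Fintype.card F ∧
        Nonempty (G ⧸ center G ≃* Matrix.ProjectiveSpecialLinearGroup (Fin 2) F) := by
  have h2 : Fact (Nat.Prime 2) := ⟨Nat.prime_two⟩
  have hsimp := simple_of_perfect h hp
  let S' : Sylow 2 (G ⧸ center G) := S.mapSurjective (QuotientGroup.mk'_surjective (center G))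
  have hS' : IsMulCommutative ↥(S' : Subgroup (G ⧸ center G)) := by
    refine ⟨⟨?_⟩⟩
    rintro ⟨_, a, ha, rfl⟩ ⟨_, b, hb, rfl⟩
    apply Subtype.ext
    change QuotientGroup.mk' (center G) a * QuotientGroup.mk' (center G) b =
      QuotientGroup.mk' (center G) b * QuotientGroup.mk' (center G) a
    rw [← map_mul, ← map_mul, (hS a ha b hb).eq]
  obtain ⟨F, iF, iFf, hF, ⟨e⟩⟩ := simple_ab (G ⧸ center G) (not_solv_quot h.toMN) S' hS'
    (cent_bar hz hC)
  rcases hF with hF | ⟨n, hn, hq⟩
  · exact ⟨F, iF, iFf, hF.1, hF.2, ⟨e⟩⟩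
  exfalso
  obtain ⟨x, hx⟩ := h.bad
  have hchar : CharP F 2 := by
    obtain ⟨p, hp⟩ := CharP.exists F
    obtain ⟨k, hpp, hk⟩ := FiniteField.card F p
    have h5 : p ∣ 2 ^ n := by
      rw [← hq, hk]
      exact dvd_pow_self p k.ne_zero
    have h6 := (Nat.prime_dvd_prime_iff_eq hpp Nat.prime_two).1 (hpp.dvd_of_dvd_pow h5)
    rwa [← h6]
  have hx1 : e (x : G ⧸ center G) ≠ 1 := by
    intro h1
    rw [map_eq_one_iff e e.injective, QuotientGroup.eq_one_iff] at h1
    exact hx.1 h1
  have hab := H77.CaPsl.psl_cent (e (x : G ⧸ center G)) hx1 (Or.inr hchar)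
  refine kill x hx ⟨⟨?_⟩⟩
  intro a b
  apply Subtype.ext
  apply e.injective
  have ha : e (a : G ⧸ center G) ∈ centralizer ({e (x : G ⧸ center G)} : Set _) := by
    rw [mem_centralizer_singleton_iff, ← map_mul, ← map_mul, mem_centralizer_singleton_iff.1 a.2]
  have hb : e (b : G ⧸ center G) ∈ centralizer ({e (x : G ⧸ center G)} : Set _) := by
    rw [mem_centralizer_singleton_iff, ← map_mul, ← map_mul, mem_centralizer_singleton_iff.1 b.2]
  have := congrArg Subtype.val (hab.is_comm.comm ⟨_, ha⟩ ⟨_, hb⟩)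
  change e ((a : G ⧸ center G) * b) = e ((b : G ⧸ center G) * a)
  rw [map_mul, map_mul]
  exact this

end H8.CAF3
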