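import Mathlib
import Cfsg.Agent.Lib.H55.BaerSuzuki
set_option autoImplicit false
set_option linter.unusedSectionVars false

/-!
Zenkov's theorem on the intersection of two abelian subgroups.
-/

namespace H8.Ito
open MulAction

variable {G : Type*} [Group G] [Finite G]

/-- conjugate subgroup -/
def cj (g : G) (B : Subgroup G) : Subgroup G := B.map (MulAut.conj g).toMonoidHom

theorem mem_cj {g : G} {B : Subgroup G} {x : G} : x ∈ cj g B ↔ g⁻¹ * x * g ∈ B := by
  constructor
  · rintro ⟨y, hy, rfl⟩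
    have : g⁻¹ * ((MulAut.conj g).toMonoidHom y) * g = y := by
      show g⁻¹ * (g * y * g⁻¹) * g = y
      group
    rw [this]; exact hy
  · intro h
    refine ⟨g⁻¹ * x * g, h, ?_⟩
    show g * (g⁻¹ * x * g) * g⁻¹ = x
    group

theorem zenkov_aux (n : ℕ) : ∀ (H A B : Subgroup G), Nat.card H = n → A ≤ H → B ≤ H →
    (∀ x ∈ A, ∀ y ∈ A, x * y = y * x) → (∀ x ∈ B, ∀ y ∈ B, x * y = y * x) →
    (∀ h ∈ H, A ⊓ cj h B ≤ B → A ⊓ B ≤ cj h B) →
    ∀ (p : ℕ) [Fact p.Prime] (m : G), m ∈ A → m ∈ B → (∃ k, m ^ p ^ k = 1) →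
    ∃ P ≤ H, (∀ h ∈ H, ∀ x ∈ P, h * x * h⁻¹ ∈ P) ∧ IsPGroup p P ∧ m ∈ P := by
  induction n using Nat.strong_induction_on with
  | _ n ih =>
    intro H A B hn hAH hBH hA hB hmin p _ m hmA hmB hmp
    have hmH : m ∈ H := hAH hmA
    have hzp : ∀ x : G, (∃ k, x ^ p ^ k = 1) → IsPGroup p (Subgroup.zpowers x) := by
      rintro x ⟨k, hk⟩ ⟨y, hy⟩
      obtain ⟨j, rfl⟩ := hy
      refine ⟨k, ?_⟩
      apply Subtype.ext
      show (x ^ j) ^ p ^ k = 1
      rw [← zpow_natCast, ← zpow_mul, mul_comm, zpow_mul, zpow_natCast, hk, one_zpow]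
    -- enough : the closure of `m` and a conjugate
    have key : ∀ g ∈ H, ∃ S : Subgroup G, IsPGroup p S ∧ m ∈ S ∧ g * m * g⁻¹ ∈ S := by
      intro g hg
      have hBg : cj g B ≤ H := by
        intro x hx
        rw [mem_cj] at hx
        have := mul_mem (mul_mem hg (hBH hx)) (inv_mem hg)
        have e : g * (g⁻¹ * x * g) * g⁻¹ = x := by group
        rwa [e] at this
      have hcB : ∀ x ∈ cj g B, ∀ y ∈ cj g B, x * y = y * x := by
        intro x hx y hy
        rw [mem_cj] at hx hy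
        have := hB _ hx _ hy
        calc x * y = g * ((g⁻¹ * x * g) * (g⁻¹ * y * g)) * g⁻¹ := by group
          _ = g * ((g⁻¹ * y * g) * (g⁻¹ * x * g)) * g⁻¹ := by rw [this]
          _ = y * x := by group
      have hle : A ⊔ cj g B ≤ H := sup_le hAH hBg
      by_cases hH : A ⊔ cj g B = H
      · -- central intersection
        have hcen : ∀ x ∈ A ⊓ cj g B, ∀ y ∈ H, x * y = y * x := by
          intro x hx y hy
          have h1 : A ⊔ cj g B ≤ Subgroup.centralizer {x} := by
            apply sup_le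
            · intro z hz
              rw [Subgroup.mem_centralizer_singleton_iff]
              exact hA _ hz _ hx.1
            · intro z hz
              rw [Subgroup.mem_centralizer_singleton_iff]
              exact hcB _ hz _ hx.2
          rw [hH] at h1
          have := h1 hy
          rw [Subgroup.mem_centralizer_singleton_iff] at this
          exact this.symm
        have h2 : A ⊓ cj g B ≤ B := by
          intro x hx
          have h3 := hcen x hx g hg
          have h4 : x ∈ cj g B := hx.2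
          rw [mem_cj] at h4
          have e : g⁻¹ * x * g = x := by rw [mul_assoc, h3]; group
          rwa [e] at h4
        have h5 : m ∈ cj g B := hmin g hg h2 ⟨hmA, hmB⟩
        have h6 := hcen m ⟨hmA, h5⟩ g hg
        refine ⟨Subgroup.zpowers m, hzp m hmp, Subgroup.mem_zpowers m, ?_⟩
        rw [← h6]
        simp
      · -- induction
        have hlt : Nat.card (A ⊔ cj g B : Subgroup G) < n := by
          rw [← hn]
          by_contra hcon
          push Not at hcon
          exact hH (Subgroup.eq_of_le_of_card_ge hle hcon)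
        obtain ⟨P, hP, hPn, hPp, hmP⟩ := ih _ hlt (A ⊔ cj g B) A (B ⊓ (A ⊔ cj g B)) rfl le_sup_left inf_le_right hA
          (fun x hx y hy => hB x hx.1 y hy.1) (by
            intro h hh hhm x hx
            have h1 : A ⊓ cj h B ≤ B := by
              intro y hy
              have h2 : y ∈ A ⊓ cj h (B ⊓ (A ⊔ cj g B)) := by
                refine Subgroup.mem_inf.2 ⟨hy.1, mem_cj.2 (Subgroup.mem_inf.2 ⟨mem_cj.1 hy.2, ?_⟩)⟩
                have h3 : y ∈ A ⊔ cj g B := (le_sup_left : A ≤ _) hy.1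
                exact mul_mem (mul_mem (inv_mem hh) h3) hh
              exact (hhm h2).1
            have h3 := hmin h (hle hh) h1 ⟨hx.1, hx.2.1⟩
            rw [mem_cj] at h3 ⊢
            have h4 : x ∈ A ⊔ cj g B := (le_sup_left : A ≤ _) hx.1
            exact Subgroup.mem_inf.2 ⟨h3, mul_mem (mul_mem (inv_mem hh) h4) hh⟩) p m hmA
          ⟨hmB, (le_sup_left : A ≤ _) hmA⟩ hmp
        have hgm : g * m * g⁻¹ ∈ A ⊔ cj g B := by
          apply (le_sup_right : cj g B ≤ _)
          rw [mem_cj]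
          have e : g⁻¹ * (g * m * g⁻¹) * g = m := by group
          rw [e]; exact hmB
        refine ⟨P ⊔ Subgroup.zpowers (g * m * g⁻¹), ?_, (le_sup_left : P ≤ _) hmP,
          (le_sup_right : Subgroup.zpowers (g * m * g⁻¹) ≤ _) (Subgroup.mem_zpowers _)⟩
        apply IsPGroup.to_sup_of_normal_left' hPp
        · apply hzp
          obtain ⟨k, hk⟩ := hmp
          exact ⟨k, by rw [conj_pow, hk]; simp⟩
        · rw [Subgroup.zpowers_le, Subgroup.mem_normalizer_iff]
          intro x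
          refine ⟨fun hx => hPn _ hgm x hx, fun hx => ?_⟩
          have := hPn _ (inv_mem hgm) _ hx
          have e : (g * m * g⁻¹)⁻¹ * (g * m * g⁻¹ * x * (g * m * g⁻¹)⁻¹) * (g * m * g⁻¹)⁻¹⁻¹ = x := by group
          rwa [e] at this
    obtain ⟨N, hN, hNp, hmN⟩ := H55.BaerSuzuki.exists_normal (p := p) (⟨m, hmH⟩ : H) (by
      intro g
      obtain ⟨S, hS, h1, h2⟩ := key g g.2
      have h3 : Subgroup.closure ({⟨m, hmH⟩, g * ⟨m, hmH⟩ * g⁻¹} : Set H) ≤ S.comap H.subtype := by
        rw [Subgroup.closure_le]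
        rintro x (rfl | rfl)
        · exact h1
        · exact h2
      exact (hS.comap_of_injective H.subtype (Subgroup.subtype_injective H)).to_le h3)
    refine ⟨N.map H.subtype, ?_, ?_, hNp.map _, ⟨⟨m, hmH⟩, hmN, rfl⟩⟩
    · rintro _ ⟨x, _, rfl⟩; exact x.2
    · rintro h hh _ ⟨x, hx, rfl⟩
      exact ⟨⟨h, hh⟩ * x * ⟨h, hh⟩⁻¹, hN.conj_mem x hx ⟨h, hh⟩, rfl⟩

/-- **Zenkov**, special case: an abelian subgroup `A` of `K`, where `K` has no nontrivial normal
`p`-subgroups, meets one of its conjugates trivially. -/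
theorem zenkov (K A : Subgroup G) (hAK : A ≤ K) (hA : ∀ x ∈ A, ∀ y ∈ A, x * y = y * x)
    (hcore : ∀ p : ℕ, p.Prime → ∀ P : Subgroup G, P ≤ K → IsPGroup p P →
      (∀ h ∈ K, ∀ x ∈ P, h * x * h⁻¹ ∈ P) → P = ⊥) :
    ∃ k ∈ K, A ⊓ cj k A = ⊥ := by
  classical
  -- choose a minimal intersection
  obtain ⟨k, hk⟩ : ∃ k : K, ∀ h : K, Nat.card (A ⊓ cj (k : G) A : Subgroup G) ≤ Nat.card (A ⊓ cj (h : G) A : Subgroup G) := by
    have : Nonempty K := ⟨1⟩
    exact Finite.exists_min (fun k : K => Nat.card (A ⊓ cj (k : G) A : Subgroup G))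
  refine ⟨k, k.2, ?_⟩
  by_contra hne
  set M := A ⊓ cj (k : G) A with hM
  have hcard : Nat.card M ≠ 1 := fun h => hne (Subgroup.card_eq_one.1 h)
  obtain ⟨p, hp, hpd⟩ := Nat.exists_prime_and_dvd hcard
  have := Fact.mk hp
  obtain ⟨m, hm⟩ := exists_prime_orderOf_dvd_card' (G := M) p hpd
  have hkA : cj (k : G) A ≤ K := by
    intro x hx
    rw [mem_cj] at hx
    have := mul_mem (mul_mem k.2 (hAK hx)) (inv_mem k.2)
    have e : (k : G) * ((k : G)⁻¹ * x * k) * (k : G)⁻¹ = x := by group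
    rwa [e] at this
  obtain ⟨P, hPK, hPn, hPp, hmP⟩ := zenkov_aux _ K A (cj (k : G) A) rfl hAK hkA hA (by
      intro x hx y hy
      rw [mem_cj] at hx hy
      have := hA _ hx _ hy
      calc x * y = k * (((k : G)⁻¹ * x * k) * ((k : G)⁻¹ * y * k)) * (k : G)⁻¹ := by group
        _ = k * (((k : G)⁻¹ * y * k) * ((k : G)⁻¹ * x * k)) * (k : G)⁻¹ := by rw [this]
        _ = y * x := by group) (by
      intro h hh hle
      have e1 : cj h (cj (k : G) A) = cj (h * k) A := by
        ext x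
        rw [mem_cj, mem_cj, mem_cj]
        have : (k : G)⁻¹ * (h⁻¹ * x * h) * k = (h * k)⁻¹ * x * (h * k) := by group
        rw [this]
      rw [e1] at hle ⊢
      have h1 : A ⊓ cj (h * k) A ≤ A ⊓ cj (k : G) A := le_inf inf_le_left hle
      have h2 := hk (⟨h, hh⟩ * k)
      have h3 : A ⊓ cj (h * k) A = A ⊓ cj (k : G) A := Subgroup.eq_of_le_of_card_ge h1 h2
      rw [← h3]
      exact inf_le_right) p (m : G) m.2.1 m.2.2 ⟨1, by
        rw [pow_one, ← hm, ← Subgroup.orderOf_coe]; exact pow_orderOf_eq_one _⟩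
  have h4 := hcore p hp P hPK hPp hPn
  rw [h4, Subgroup.mem_bot] at hmP
  have h5 : m = 1 := Subtype.ext hmP
  rw [h5, orderOf_one] at hm
  exact hp.one_lt.ne hm

end H8.Ito
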