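import Mathlib
import Cfsg.Agent.Lib.H8.Ito2
set_option autoImplicit false
set_option linter.unusedSectionVars false

/-!
TI systems of normal subgroups of point stabilizers, transitive on the remaining points.
-/

namespace H8.Ito
open MulAction
open scoped Pointwise

variable {G X : Type*} [Group G] [Finite G] [MulAction G X] [Finite X]

/-- orbit-stabilizer for a subgroup -/
theorem card_orb (K : Subgroup G) (y : X) :
    (orbit K y).ncard * Nat.card (K ⊓ stabilizer G y : Subgroup G) = Nat.card K := by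
  have h1 := (stabilizer K y).card_mul_index
  rw [MulAction.index_stabilizer] at h1
  have h2 : Nat.card (stabilizer K y) = Nat.card (K ⊓ stabilizer G y : Subgroup G) := by
    apply Nat.card_congr
    refine ⟨fun k => ⟨k.1.1, Subgroup.mem_inf.2 ⟨k.1.2, k.2⟩⟩, fun g => ⟨⟨g.1, (Subgroup.mem_inf.1 g.2).1⟩, (Subgroup.mem_inf.1 g.2).2⟩, ?_, ?_⟩
    · intro k; rfl
    · intro g; rfl
  rw [← h2, mul_comm]; exact h1

theorem mem_orb {K : Subgroup G} {y z : X} : z ∈ orbit K y ↔ ∃ k ∈ K, k • y = z := by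
  constructor
  · rintro ⟨k, rfl⟩; exact ⟨k, k.2, rfl⟩
  · rintro ⟨k, hk, rfl⟩; exact ⟨⟨k, hk⟩, rfl⟩

/-- fixed points of a `p`-group on an invariant set -/
theorem fix_mod (p : ℕ) [Fact p.Prime] (P : Subgroup G) (hP : IsPGroup p P) (S : Set X)
    (hS : ∀ g ∈ P, ∀ s ∈ S, g • s ∈ S) :
    S.ncard ≡ {s | s ∈ S ∧ ∀ g ∈ P, g • s = s}.ncard [MOD p] := by
  let _ : MulAction P S :=
    { smul := fun g s => ⟨(g : G) • (s : X), hS g g.2 s s.2⟩
      one_smul := fun s => Subtype.ext (one_smul G (s : X))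
      mul_smul := fun g h s => Subtype.ext (mul_smul (g : G) (h : G) (s : X)) }
  have h1 := hP.card_modEq_card_fixedPoints S
  have h2 : Nat.card (fixedPoints P S) = {s | s ∈ S ∧ ∀ g ∈ P, g • s = s}.ncard := by
    rw [← Nat.card_coe_set_eq]
    apply Nat.card_congr
    refine ⟨fun s => ⟨s.1.1, s.1.2, fun g hg => ?_⟩, fun s => ⟨⟨s.1, s.2.1⟩, fun g => ?_⟩, ?_, ?_⟩
    · exact congrArg Subtype.val (s.2 ⟨g, hg⟩)
    · exact Subtype.ext (s.2.2 g g.2)
    · intro s; rfl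
    · intro s; rfl
  rw [h2, Nat.card_coe_set_eq] at h1
  exact h1

/-- a TI system -/
structure TIS (N : X → Subgroup G) (L : Set X) : Prop where
  conj : ∀ (g : G) (x : X), ∀ n ∈ N x, g * n * g⁻¹ ∈ N (g • x)
  fix : ∀ x, ∀ n ∈ N x, n • x = x
  disj : ∀ x y, x ≠ y → ∀ n, n ∈ N x → n ∈ N y → n = 1
  stab : ∀ x ∈ L, ∀ n ∈ N x, ∀ z ∈ L, n • z ∈ L
  trans : ∀ x ∈ L, ∀ y ∈ L, ∀ z ∈ L, y ≠ x → z ≠ x → ∃ n ∈ N x, n • y = z

/-- two point stabilizers -/
def W (N : X → Subgroup G) (x y : X) : Subgroup G := N x ⊓ stabilizer G y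
/-- three point stabilizers -/
def S3 (N : X → Subgroup G) (x y z : X) : Subgroup G := (N x ⊓ stabilizer G y) ⊓ stabilizer G z

theorem mem_W {N : X → Subgroup G} {x y : X} {g : G} : g ∈ W N x y ↔ g ∈ N x ∧ g • y = y := Iff.rfl
theorem mem_S3 {N : X → Subgroup G} {x y z : X} {g : G} : g ∈ S3 N x y z ↔ (g ∈ N x ∧ g • y = y) ∧ g • z = z := Iff.rfl

variable {N : X → Subgroup G} {L : Set X}

section basic
variable (T : TIS N L)
include T

theorem TIS.comm {x y : X} {a b : G} (hxy : x ≠ y) (ha : a ∈ N x) (hay : a • y = y) (hb : b ∈ N y) (hbx : b • x = x) :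
    a * b = b * a := by
  have h1 : a * b * a⁻¹ * b⁻¹ = 1 := by
    apply T.disj x y hxy
    · have := T.conj b x a⁻¹ (inv_mem ha)
      rw [hbx] at this
      have h2 := mul_mem ha this
      have e : a * (b * a⁻¹ * b⁻¹) = a * b * a⁻¹ * b⁻¹ := by group
      rwa [e] at h2
    · have := T.conj a y b hb
      rw [hay] at this
      exact mul_mem this (inv_mem hb)
  rw [mul_inv_eq_one, mul_inv_eq_iff_eq_mul] at h1
  exact h1

theorem TIS.fix_of_comm {x : X} {a g : G} (ha : a ∈ N x) (ha1 : a ≠ 1) (h : g * a = a * g) : g • x = x := by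
  by_contra hne
  have h1 := T.conj g x a ha
  have e : g * a * g⁻¹ = a := by rw [h]; group
  rw [e] at h1
  exact ha1 (T.disj _ _ hne a h1 ha)

theorem TIS.uniq {x y : X} {b n n' : G} (hxy : x ≠ y) (hb : b ∈ N y) (hbx : b • x = x) (hn : n ∈ N x) (hn' : n' ∈ N x)
    (h : n • y = n' • y) : n * b * n⁻¹ = n' * b * n'⁻¹ := by
  have h1 : (n'⁻¹ * n) • y = y := by rw [mul_smul, h, inv_smul_smul]
  have h2 := T.comm hxy (mul_mem (inv_mem hn') hn) h1 hb hbx
  calc n * b * n⁻¹ = n' * ((n'⁻¹ * n) * b) * n⁻¹ := by group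
    _ = n' * (b * (n'⁻¹ * n)) * n⁻¹ := by rw [h2]
    _ = _ := by group

theorem TIS.comm_of_fix {x y z : X} {b n : G} (hxy : x ≠ y) (hb : b ∈ N y) (hbx : b • x = x) (hn : n ∈ N x)
    (hnz : n • y = z) (hbz : b • z = z) : b * (n * b * n⁻¹) = (n * b * n⁻¹) * b := by
  have h1 : b * n * b⁻¹ ∈ N x := by
    have := T.conj b x n hn
    rwa [hbx] at this
  have h2 : (b * n * b⁻¹) • y = n • y := by
    rw [mul_smul, mul_smul, inv_smul_eq_iff.2 (T.fix y b hb).symm, hnz, hbz]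
  have h3 := T.uniq hxy hb hbx h1 hn h2
  have e : b * n * b⁻¹ * b * (b * n * b⁻¹)⁻¹ = b * (n * b * n⁻¹) * b⁻¹ := by group
  rw [e] at h3
  exact mul_inv_eq_iff_eq_mul.1 h3

theorem TIS.psi_mem {x y z : X} {b n : G} (hxy : x ≠ y) (hb : b ∈ S3 N y x z) (hn : n ∈ N x)
    (hnz : n • y = z) : n * b * n⁻¹ * b⁻¹ ∈ S3 N x y z := by
  obtain ⟨⟨hb, hbx⟩, hbz⟩ := mem_S3.1 hb
  have h0 : n * b * n⁻¹ * b⁻¹ ∈ N x := by
    have := T.conj b x n⁻¹ (inv_mem hn)
    rw [hbx] at this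
    have h2 := mul_mem hn this
    have e : n * (b * n⁻¹ * b⁻¹) = n * b * n⁻¹ * b⁻¹ := by group
    rwa [e] at h2
  by_cases hb1 : b = 1
  · subst hb1
    have e : n * 1 * n⁻¹ * 1⁻¹ = 1 := by group
    rw [e]; exact one_mem _
  have hc := T.comm_of_fix hxy hb hbx hn hnz hbz
  have hz : n * b * n⁻¹ ∈ N z := by
    have := T.conj n y b hb
    rwa [hnz] at this
  have hz1 : n * b * n⁻¹ ≠ 1 := by
    intro h
    apply hb1
    have : b = n⁻¹ * (n * b * n⁻¹) * n := by group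
    rw [this, h]; group
  refine mem_S3.2 ⟨⟨h0, T.fix_of_comm hb hb1 ?_⟩, T.fix_of_comm hz hz1 ?_⟩
  · calc n * b * n⁻¹ * b⁻¹ * b = (n * b * n⁻¹) * b * b⁻¹ := by group
      _ = b * (n * b * n⁻¹) * b⁻¹ := by rw [hc]
      _ = _ := by group
  · calc n * b * n⁻¹ * b⁻¹ * (n * b * n⁻¹) = (n * b * n⁻¹) * b⁻¹ * ((n * b * n⁻¹) * b) * b⁻¹ := by group
      _ = (n * b * n⁻¹) * b⁻¹ * (b * (n * b * n⁻¹)) * b⁻¹ := by rw [hc]
      _ = _ := by group

theorem TIS.psi_inj {x y z : X} {b b' n : G} (hxy : x ≠ y) (hyz : y ≠ z) (hb : b ∈ S3 N y x z) (hb' : b' ∈ S3 N y x z) (hn : n ∈ N x)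
    (hnz : n • y = z) (h : n * b * n⁻¹ * b⁻¹ = n * b' * n⁻¹ * b'⁻¹) : b = b' := by
  -- b'⁻¹ b is killed
  obtain ⟨⟨hb1, hbx⟩, hbz⟩ := mem_S3.1 hb
  obtain ⟨⟨hb1', hbx'⟩, hbz'⟩ := mem_S3.1 hb'
  have h1 := T.psi_mem hxy hb hn hnz
  obtain ⟨⟨h2, h3⟩, h4⟩ := mem_S3.1 h1
  -- the element b'⁻¹ * b commutes with n
  have h5 := T.comm hxy h2 h3 hb1' hbx'
  have h6 : n * (b'⁻¹ * b) * n⁻¹ = b'⁻¹ * b := by
    have e1 : n * b * n⁻¹ = (n * b * n⁻¹ * b⁻¹) * b := by group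
    have e2 : n * b' * n⁻¹ = (n * b * n⁻¹ * b⁻¹) * b' := by rw [h]; group
    calc n * (b'⁻¹ * b) * n⁻¹ = (n * b' * n⁻¹)⁻¹ * (n * b * n⁻¹) := by group
      _ = ((n * b * n⁻¹ * b⁻¹) * b')⁻¹ * ((n * b * n⁻¹ * b⁻¹) * b) := by rw [← e2, ← e1]
      _ = b'⁻¹ * b := by group
  have h7 : b'⁻¹ * b ∈ N y := mul_mem (inv_mem hb1') hb1
  have h8 : b'⁻¹ * b ∈ N z := by
    have := T.conj n y _ h7
    rwa [hnz, h6] at this
  exact (inv_mul_eq_one.1 (T.disj y z hyz _ h7 h8)).symm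

theorem TIS.card_S3_le {x y z : X} (hx : x ∈ L) (hy : y ∈ L) (hz : z ∈ L) (hxy : x ≠ y) (hxz : x ≠ z) (hyz : y ≠ z) :
    Nat.card (S3 N y x z) ≤ Nat.card (S3 N x y z) := by
  obtain ⟨n, hn, hnz⟩ := T.trans x hx y hy z hz hxy.symm hxz.symm
  refine Nat.card_le_card_of_injective (fun b : S3 N y x z => (⟨n * b * n⁻¹ * (b : G)⁻¹, T.psi_mem hxy b.2 hn hnz⟩ : S3 N x y z)) ?_
  intro b b' h
  exact Subtype.ext (T.psi_inj hxy hyz b.2 b'.2 hn hnz (congrArg Subtype.val h))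

theorem TIS.card_S3 {x y z : X} (hx : x ∈ L) (hy : y ∈ L) (hz : z ∈ L) (hxy : x ≠ y) (hxz : x ≠ z) (hyz : y ≠ z) :
    Nat.card (S3 N y x z) = Nat.card (S3 N x y z) :=
  le_antisymm (T.card_S3_le hx hy hz hxy hxz hyz) (T.card_S3_le hy hx hz hxy.symm hyz hxz)

theorem TIS.psi_surj {x y z : X} (hx : x ∈ L) (hy : y ∈ L) (hz : z ∈ L) (hxy : x ≠ y) (hxz : x ≠ z) (hyz : y ≠ z)
    {n : G} (hn : n ∈ N x) (hnz : n • y = z) {c : G} (hc : c ∈ S3 N x y z) :
    ∃ b ∈ S3 N y x z, n * b * n⁻¹ * b⁻¹ = c := by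
  let f : S3 N y x z → S3 N x y z := fun b => ⟨n * b * n⁻¹ * (b : G)⁻¹, T.psi_mem hxy b.2 hn hnz⟩
  have hf : Function.Injective f := by
    intro b b' h
    exact Subtype.ext (T.psi_inj hxy hyz b.2 b'.2 hn hnz (congrArg Subtype.val h))
  have hb := (Nat.bijective_iff_injective_and_card f).2 ⟨hf, T.card_S3 hx hy hz hxy hxz hyz⟩
  obtain ⟨b, hb⟩ := hb.2 ⟨c, hc⟩
  exact ⟨b, b.2, congrArg Subtype.val hb⟩

theorem TIS.S3_comm {x y z : X} (hx : x ∈ L) (hy : y ∈ L) (hz : z ∈ L) (hxy : x ≠ y) (hxz : x ≠ z) (hyz : y ≠ z)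
    {c c' : G} (hc : c ∈ S3 N x y z) (hc' : c' ∈ S3 N x y z) : c * c' = c' * c := by
  obtain ⟨n, hn, hnz⟩ := T.trans x hx y hy z hz hxy.symm hxz.symm
  obtain ⟨b, hb, rfl⟩ := T.psi_surj hx hy hz hxy hxz hyz hn hnz hc
  obtain ⟨⟨hb1, hbx⟩, hbz⟩ := mem_S3.1 hb
  obtain ⟨⟨h1, h2⟩, h3⟩ := mem_S3.1 hc'
  have h4 : n * b * n⁻¹ ∈ N z := by
    have := T.conj n y b hb1
    rwa [hnz] at this
  have h5 : (n * b * n⁻¹) • x = x := by
    rw [mul_smul, mul_smul, inv_smul_eq_iff.2 (T.fix x n hn).symm, hbx, T.fix x n hn]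
  have h6 := T.comm hxy h1 h2 hb1 hbx
  have h7 := T.comm hxz h1 h3 h4 h5
  have h8 : c' * b⁻¹ = b⁻¹ * c' := by
    rw [eq_inv_mul_iff_mul_eq, ← mul_assoc, ← h6]; group
  rw [mul_assoc, ← h8, ← mul_assoc, ← h7, mul_assoc]

theorem TIS.orb {x y : X} (hx : x ∈ L) (hy : y ∈ L) (hxy : x ≠ y) : orbit (N x) y = L \ {x} := by
  ext z
  rw [mem_orb]
  constructor
  · rintro ⟨n, hn, rfl⟩
    refine ⟨T.stab x hx n hn y hy, ?_⟩
    intro h
    have h1 : n • y = x := h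
    have h2 : n⁻¹ • x = x := by rw [inv_smul_eq_iff, T.fix x n hn]
    have h3 : y = x := by
      calc y = n⁻¹ • (n • y) := (inv_smul_smul n y).symm
        _ = n⁻¹ • x := by rw [h1]
        _ = x := h2
    exact hxy h3.symm
  · rintro ⟨hz, hzx⟩
    exact T.trans x hx y hy z hz hxy.symm hzx

end basic

/-! ### prime power degree -/

theorem isPGroup_zpowers {p : ℕ} {x : G} (hx : orderOf x = p) : IsPGroup p (Subgroup.zpowers x) := by
  rintro ⟨y, hy⟩
  obtain ⟨j, rfl⟩ := hy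
  refine ⟨1, ?_⟩
  apply Subtype.ext
  show (x ^ j) ^ p ^ 1 = 1
  rw [pow_one, ← zpow_natCast, ← zpow_mul, mul_comm, zpow_mul, zpow_natCast, ← hx, pow_orderOf_eq_one, one_zpow]

/-- a Sylow `p`-subgroup of a transitive group of prime power degree is transitive -/
theorem sylow_orb {p e : ℕ} [hp : Fact p.Prime] (M P : Subgroup G) (hPM : P ≤ M) (hP : ¬ p ∣ P.relIndex M) (y : X)
    (h : (orbit M y).ncard = p ^ e) : orbit P y = orbit M y := by
  have h1 := card_orb M y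
  have h2 := card_orb P y
  have h3 : Nat.card P * P.relIndex M = Nat.card M := by
    have := (P.subgroupOf M).card_mul_index
    rw [Nat.card_congr (Subgroup.subgroupOfEquivOfLe hPM).toEquiv] at this
    exact this
  have h4 : Nat.card (P ⊓ stabilizer G y : Subgroup G) ∣ Nat.card (M ⊓ stabilizer G y : Subgroup G) :=
    Subgroup.card_dvd_of_le (inf_le_inf_right _ hPM)
  obtain ⟨j, hj⟩ := h4
  have hpos : 0 < Nat.card (P ⊓ stabilizer G y : Subgroup G) := Nat.card_pos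
  have h5 : p ^ e * j = (orbit P y).ncard * P.relIndex M := by
    apply Nat.eq_of_mul_eq_mul_right hpos
    calc p ^ e * j * Nat.card (P ⊓ stabilizer G y : Subgroup G) = (orbit M y).ncard * Nat.card (M ⊓ stabilizer G y : Subgroup G) := by
          rw [h, hj]; ring
      _ = Nat.card P * P.relIndex M := by rw [h1, h3]
      _ = _ := by rw [← h2]; ring
  have h6 : p ^ e ∣ (orbit P y).ncard := by
    have h7 : p ^ e ∣ (orbit P y).ncard * P.relIndex M := ⟨j, h5.symm⟩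
    exact (Nat.Coprime.pow_left e ((Nat.Prime.coprime_iff_not_dvd hp.out).2 hP)).dvd_of_dvd_mul_right h7
  have hsub : orbit P y ⊆ orbit M y := by
    intro z hz
    rw [mem_orb] at hz ⊢
    obtain ⟨k, hk, rfl⟩ := hz
    exact ⟨k, hPM hk, rfl⟩
  apply Set.eq_of_subset_of_ncard_le hsub
  · rw [h]
    apply Nat.le_of_dvd _ h6
    rw [Set.ncard_pos]
    exact ⟨y, mem_orbit_self y⟩

theorem TIS.prime_power (T : TIS N L) (hfa : ∀ x ∈ L, ∀ n ∈ N x, (∀ z ∈ L, n • z = z) → n = 1)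
    {p e : ℕ} [hp : Fact p.Prime] {x y : X} (hx : x ∈ L) (hy : y ∈ L) (hxy : x ≠ y)
    (hu : (L \ {x}).ncard = p ^ e) (hpt : p ∣ Nat.card (W N y x)) (hpK : p ∣ Nat.card (N x)) : False := by
  -- an element of order p in `W y x`
  obtain ⟨⟨b, hb⟩, hbo⟩ := exists_prime_orderOf_dvd_card' (G := W N y x) p hpt
  rw [Subgroup.orderOf_mk] at hbo
  have hb1 : b ≠ 1 := by
    rintro rfl
    rw [orderOf_one] at hbo
    exact hp.out.one_lt.ne hbo
  obtain ⟨hbN, hbx⟩ := mem_W.1 hb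
  set M : Subgroup G := N x ⊔ Subgroup.zpowers b with hM
  have hMx : M ≤ stabilizer G x := by
    apply sup_le
    · intro n hn; exact T.fix x n hn
    · rw [Subgroup.zpowers_le]; exact hbx
  have hnorm : ∀ m ∈ M, ∀ n ∈ N x, m * n * m⁻¹ ∈ N x := by
    intro m hm n hn
    have h1 := T.conj m x n hn
    have h2 : m • x = x := hMx hm
    rwa [h2] at h1
  have hML : ∀ m ∈ M, ∀ z ∈ L, m • z ∈ L := by
    have : M ≤ stabilizer G L := by
      apply sup_le
      · intro n hn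
        rw [mem_stabilizer_set_iff_smul_set_subset (Set.toFinite L)]
        rintro _ ⟨z, hz, rfl⟩
        exact T.stab x hx n hn z hz
      · rw [Subgroup.zpowers_le, mem_stabilizer_set_iff_smul_set_subset (Set.toFinite L)]
        rintro _ ⟨z, hz, rfl⟩
        exact T.stab y hy b hbN z hz
    intro m hm z hz
    have h1 := this hm
    rw [mem_stabilizer_iff] at h1
    rw [← h1]
    exact Set.smul_mem_smul_set hz
  -- orbit of `M`
  have hMo : orbit M y = L \ {x} := by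
    apply Set.Subset.antisymm
    · intro z hz
      rw [mem_orb] at hz
      obtain ⟨m, hm, rfl⟩ := hz
      refine ⟨hML m hm y hy, ?_⟩
      intro h
      have h1 : m • y = x := h
      have h2 : m • x = x := hMx hm
      exact hxy (MulAction.injective m (h2.trans h1.symm))
    · rw [← T.orb hx hy hxy]
      intro z hz
      rw [mem_orb] at hz ⊢
      obtain ⟨m, hm, rfl⟩ := hz
      exact ⟨m, (le_sup_left : N x ≤ M) hm, rfl⟩
  -- a Sylow subgroup containing `b`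
  have hbM : b ∈ M := (le_sup_right : _ ≤ M) (Subgroup.mem_zpowers b)
  have hbp : IsPGroup p (Subgroup.zpowers (⟨b, hbM⟩ : M)) := by
    apply isPGroup_zpowers
    rw [Subgroup.orderOf_mk]; exact hbo
  obtain ⟨Q, hQ⟩ := hbp.exists_le_sylow
  set P : Subgroup G := (Q : Subgroup M).map M.subtype with hPdef
  have hPM : P ≤ M := by
    rintro _ ⟨q, _, rfl⟩; exact q.2
  have hrel : P.relIndex M = (Q : Subgroup M).index := by
    show (P.subgroupOf M).index = _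
    congr 1
    rw [hPdef, Subgroup.subgroupOf, Subgroup.comap_map_eq_self_of_injective (Subgroup.subtype_injective M)]
  have hPi : ¬ p ∣ P.relIndex M := by rw [hrel]; exact Q.not_dvd_index
  have hPo : orbit P y = L \ {x} := by
    rw [sylow_orb M P hPM hPi y (by rw [hMo]; exact hu), hMo]
  have hPp : IsPGroup p P := Q.isPGroup'.map _
  have hbP : b ∈ P := ⟨⟨b, hbM⟩, hQ (Subgroup.mem_zpowers _), rfl⟩
  -- `P ⊓ N x` is nontrivial
  obtain ⟨⟨a, ha⟩, hao⟩ := exists_prime_orderOf_dvd_card' (G := N x) p hpK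
  rw [Subgroup.orderOf_mk] at hao
  have ha1 : a ≠ 1 := by
    rintro rfl
    rw [orderOf_one] at hao
    exact hp.out.one_lt.ne hao
  have haM : a ∈ M := (le_sup_left : N x ≤ M) ha
  obtain ⟨Q', hQ'⟩ := (isPGroup_zpowers (p := p) (x := (⟨a, haM⟩ : M)) (by rw [Subgroup.orderOf_mk]; exact hao)).exists_le_sylow
  obtain ⟨m, hm⟩ := MulAction.exists_smul_eq M Q' Q
  have ha' : (m : G) * a * (m : G)⁻¹ ∈ P := by
    refine ⟨m * ⟨a, haM⟩ * m⁻¹, ?_, rfl⟩
    rw [← hm]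
    exact Subgroup.smul_mem_pointwise_smul _ (MulAut.conj m) _ (hQ' (Subgroup.mem_zpowers _))
  have ha'N : (m : G) * a * (m : G)⁻¹ ∈ N x := hnorm m m.2 a ha
  have ha'1 : (m : G) * a * (m : G)⁻¹ ≠ 1 := by
    intro h
    apply ha1
    have : a = (m : G)⁻¹ * ((m : G) * a * (m : G)⁻¹) * m := by group
    rw [this, h]; group
  -- a central element
  let R : Subgroup P := (N x).subgroupOf P
  have hRn : R.Normal := by
    constructor
    intro n hn g
    exact hnorm g (hPM g.2) n hn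
  have hRnt : R ≠ ⊥ := by
    intro h
    have : (⟨(m : G) * a * (m : G)⁻¹, ha'⟩ : P) ∈ R := ha'N
    rw [h, Subgroup.mem_bot] at this
    exact ha'1 (congrArg Subtype.val this)
  obtain ⟨c, hcR, hc1, hcc⟩ : ∃ c ∈ R, c ≠ 1 ∧ ∀ g : P, g * c = c * g := by
    have : Nontrivial R := (Subgroup.nontrivial_iff_ne_bot R).2 hRnt
    -- P acts on R by conjugation
    have hR : ∀ (g : P) (r : P), r ∈ R → g * r * g⁻¹ ∈ R := fun g r hr => hRn.conj_mem r hr g
    let _ : MulAction P R :=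
      { smul := fun g r => ⟨g * r * g⁻¹, hR g r r.2⟩
        one_smul := fun r => Subtype.ext (by show 1 * (r : P) * 1⁻¹ = r; group)
        mul_smul := fun g h r => Subtype.ext (by
          show (g * h) * (r : P) * (g * h)⁻¹ = g * (h * r * h⁻¹) * g⁻¹; group) }
    have h1 : p ∣ Nat.card R := by
      obtain ⟨k, hk⟩ := (IsPGroup.iff_card.1 (hPp.to_subgroup R))
      have h2 : 1 < Nat.card R := Finite.one_lt_card
      rw [hk] at h2 ⊢
      have : k ≠ 0 := by rintro rfl; simp at h2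
      exact dvd_pow_self p this
    have hfx : (1 : R) ∈ fixedPoints P R := by
      intro g
      apply Subtype.ext
      show g * ((1 : R) : P) * g⁻¹ = 1
      simp
    obtain ⟨r, hr, hr1⟩ := hPp.exists_fixed_point_of_prime_dvd_card_of_fixed_point R h1 hfx
    refine ⟨r, r.2, fun h => hr1 (Subtype.ext h).symm, fun g => ?_⟩
    have h3 : g * (r : P) * g⁻¹ = r := congrArg Subtype.val (hr g)
    exact mul_inv_eq_iff_eq_mul.1 h3
  -- `c` fixes everything
  have hcN : (c : G) ∈ N x := hcR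
  have hcy : (c : G) • y = y := by
    apply T.fix_of_comm hbN hb1
    exact (congrArg Subtype.val (hcc ⟨b, hbP⟩)).symm
  have hall : ∀ z ∈ L, (c : G) • z = z := by
    intro z hz
    by_cases hzx : z = x
    · subst hzx; exact T.fix z _ hcN
    · have h1 : z ∈ orbit P y := by rw [hPo]; exact ⟨hz, hzx⟩
      rw [mem_orb] at h1
      obtain ⟨k, hk, rfl⟩ := h1
      have h2 : k * (c : G) = c * k := congrArg Subtype.val (hcc ⟨k, hk⟩)
      rw [← mul_smul, ← h2, mul_smul, hcy]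
  exact hc1 (Subtype.ext (hfa x hx _ hcN hall))

end H8.Ito
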