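import Mathlib
import Cfsg.Agent.Lib.H8.Ito3
set_option autoImplicit false
set_option linter.unusedSectionVars false

/-!
TI systems of normal subgroups of point stabilizers, transitive on the remaining points: the
subgroups have nontrivial normal `p`-subgroups.
-/

namespace H8.Ito
open MulAction
open scoped Pointwise

variable {G X : Type*} [Group G] [Finite G] [MulAction G X] [Finite X]
variable {N : X → Subgroup G} {L : Set X}

section
variable (T : TIS N L)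
include T

theorem TIS.card_N {t u : ℕ} (hL : L.ncard = u + 1) (ht : ∀ x ∈ L, ∀ y ∈ L, x ≠ y → Nat.card (W N x y) = t)
    {x y : X} (hx : x ∈ L) (hy : y ∈ L) (hxy : x ≠ y) : Nat.card (N x) = u * t := by
  rw [← card_orb (N x) y, T.orb hx hy hxy]
  have h1 : (L \ {x}).ncard = u := by
    rw [Set.ncard_sdiff_singleton_of_mem hx, hL]; rfl
  rw [h1]
  congr 1
  exact ht x hx y hy hxy

/-- the product of `N x` and `W y x` -/
def TIS.NA (x y : X) : Subgroup G where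
  carrier := {g | ∃ n ∈ N x, ∃ a ∈ W N y x, g = n * a}
  one_mem' := ⟨1, one_mem _, 1, one_mem _, by group⟩
  mul_mem' := by
    rintro _ _ ⟨n, hn, a, ha, rfl⟩ ⟨n', hn', a', ha', rfl⟩
    refine ⟨n * (a * n' * a⁻¹), mul_mem hn ?_, a * a', mul_mem ha ha', by group⟩
    have := T.conj a x n' hn'
    rwa [(mem_W.1 ha).2] at this
  inv_mem' := by
    rintro _ ⟨n, hn, a, ha, rfl⟩
    refine ⟨a⁻¹ * n⁻¹ * a⁻¹⁻¹, ?_, a⁻¹, inv_mem ha, by group⟩
    have := T.conj a⁻¹ x n⁻¹ (inv_mem hn)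
    rwa [(mem_W.1 (inv_mem ha)).2] at this

theorem TIS.caseI {t u : ℕ} (hL : L.ncard = u + 1) (hu2 : 2 ≤ u) (ht : ∀ x ∈ L, ∀ y ∈ L, x ≠ y → Nat.card (W N x y) = t)
    (hut : u ∣ t) {x : X} (hx : x ∈ L)
    (hI : ∀ y ∈ L, ∀ z ∈ L, x ≠ y → x ≠ z → y ≠ z → ¬ W N x y ≤ stabilizer G z)
    {p : ℕ} [hp : Fact p.Prime] (hpu : p ∣ u) : t < (p ^ t.factorization p) ^ 2 := by
  classical
  have hpt : p ∣ t := hpu.trans hut
  obtain ⟨y₀, hy₀, hy₀x⟩ : ∃ y ∈ L, y ≠ x := by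
    apply Set.exists_ne_of_one_lt_ncard
    omega
  have ht0 : 0 < t := by
    rw [← ht y₀ hy₀ x hx hy₀x]
    exact Nat.card_pos
  set v := t.factorization p with hv
  have hv1 : 1 ≤ v := hp.out.factorization_pos_of_dvd ht0.ne' hpt
  -- the set of good pairs
  let S : Set (X × X) := {q | q.1 ∈ L ∧ q.2 ∈ L ∧ x ≠ q.1 ∧ x ≠ q.2 ∧ q.1 ≠ q.2 ∧ p ^ v ∣ Nat.card (S3 N x q.1 q.2)}
  have hS : S.Nonempty := by
    obtain ⟨R'⟩ : Nonempty (Sylow p (W N x y₀)) := inferInstance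
    set R : Subgroup G := (R' : Subgroup (W N x y₀)).map (W N x y₀).subtype with hR
    have hRW : R ≤ W N x y₀ := by rintro _ ⟨r, _, rfl⟩; exact r.2
    have hRp : IsPGroup p R := R'.isPGroup'.map _
    have hRc : Nat.card R = p ^ v := by
      rw [hR, Subgroup.card_map_of_injective (Subgroup.subtype_injective _), R'.card_eq_multiplicity,
        ht x hx y₀ hy₀ hy₀x.symm]
    have h1 := fix_mod p R hRp L (fun g hg s hs => T.stab x hx g (mem_W.1 (hRW hg)).1 s hs)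
    rw [hL] at h1
    obtain ⟨z, hz, hzx, hzy⟩ : ∃ z, (z ∈ L ∧ ∀ g ∈ R, g • z = z) ∧ z ≠ x ∧ z ≠ y₀ := by
      by_contra hcon
      push Not at hcon
      have h2 : {s | s ∈ L ∧ ∀ g ∈ R, g • s = s} = {x, y₀} := by
        ext s
        simp only [Set.mem_ofPred_eq, Set.mem_insert_iff, Set.mem_singleton_iff]
        constructor
        · intro hs
          by_cases hsx : s = x
          · exact Or.inl hsx
          · exact Or.inr (hcon s hs hsx)
        · rintro (rfl | rfl)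
          · exact ⟨hx, fun g hg => T.fix s g (mem_W.1 (hRW hg)).1⟩
          · exact ⟨hy₀, fun g hg => (mem_W.1 (hRW hg)).2⟩
      rw [h2, Set.ncard_pair hy₀x.symm] at h1
      have h3 : 0 + 1 ≡ 1 + 1 [MOD p] := (Nat.ModEq.add_right 1 ((Nat.modEq_zero_iff_dvd.2 hpu).symm)).trans h1
      have h4 := (Nat.ModEq.add_right_cancel' 1 h3)
      have h5 : p ∣ 1 := (Nat.modEq_zero_iff_dvd).1 h4.symm
      exact hp.out.one_lt.ne' (Nat.dvd_one.1 h5)
    refine ⟨(y₀, z), hy₀, hz.1, hy₀x.symm, hzx.symm, hzy.symm, ?_⟩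
    rw [← hRc]
    apply Subgroup.card_dvd_of_le
    intro r hr
    exact mem_S3.2 ⟨hRW hr, hz.2 r hr⟩
  obtain ⟨⟨y, z⟩, ⟨hy, hz, hxy, hxz, hyz, hQd⟩, hmax⟩ := Set.exists_max_image S (fun q => Nat.card (S3 N x q.1 q.2)) (Set.toFinite S) hS
  simp only at hy hz hxy hxz hyz hQd hmax
  set Q := S3 N x y z with hQ
  let D : Set X := {w | w ∈ L ∧ w ≠ x ∧ ∀ q ∈ Q, q • w = w}
  have hyD : y ∈ D := ⟨hy, hxy.symm, fun q hq => (mem_S3.1 hq).1.2⟩
  have hzD : z ∈ D := ⟨hz, hxz.symm, fun q hq => (mem_S3.1 hq).2⟩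
  have hQN : ∀ q ∈ Q, q ∈ N x := fun q hq => (mem_S3.1 hq).1.1
  -- (a)
  have ha : ∀ w ∈ D, ∀ w' ∈ D, w ≠ w' → S3 N x w w' = Q := by
    intro w hw w' hw' hne
    have h1 : Q ≤ S3 N x w w' := fun q hq => mem_S3.2 ⟨⟨hQN q hq, hw.2.2 q hq⟩, hw'.2.2 q hq⟩
    have h2 := hmax (w, w') ⟨hw.1, hw'.1, hw.2.1.symm, hw'.2.1.symm, hne, hQd.trans (Subgroup.card_dvd_of_le h1)⟩
    exact (Subgroup.eq_of_le_of_card_ge h1 h2).symm
  have hQcomm : ∀ q ∈ Q, ∀ q' ∈ Q, q * q' = q' * q := fun q hq q' hq' => T.S3_comm hx hy hz hxy hxz hyz hq hq'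
  -- `W w x` commutes with `Q`
  have hAQ : ∀ w ∈ D, ∀ b ∈ W N w x, ∀ q ∈ Q, q * b = b * q := by
    intro w hw b hb q hq
    exact T.comm hw.2.1.symm (hQN q hq) (hw.2.2 q hq) (mem_W.1 hb).1 (mem_W.1 hb).2
  -- the size of `Q`
  have hQt : Nat.card Q ∣ t := by
    rw [← ht x hx y hy hxy]
    apply Subgroup.card_dvd_of_le
    intro q hq; exact (mem_S3.1 hq).1
  have hQpos : 0 < Nat.card Q := Nat.card_pos
  have hQne : Nat.card Q ≠ t := by
    intro h
    apply hI y hy z hz hxy hxz hyz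
    have h1 : Q = W N x y := by
      apply Subgroup.eq_of_le_of_card_ge
      · intro q hq; exact (mem_S3.1 hq).1
      · rw [h, ht x hx y hy hxy]
    rw [← h1]
    intro q hq
    exact (mem_S3.1 hq).2
  -- groups preserving `D`
  have hpres : ∀ g : G, g • x = x → (∀ w ∈ L, g • w ∈ L) → (∀ q ∈ Q, q * g = g * q) → ∀ w ∈ D, g • w ∈ D := by
    intro g hgx hgL hgQ w hw
    refine ⟨hgL w hw.1, ?_, ?_⟩
    · intro h
      exact hw.2.1 (MulAction.injective g (h.trans hgx.symm))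
    · intro q hq
      rw [← mul_smul, hgQ q hq, mul_smul, hw.2.2 q hq]
  -- (b)
  have hb : ∀ r : ℕ, r.Prime → r ∣ t / Nat.card Q → ∀ w ∈ D, ∃ E : Subgroup G, E ≤ W N w x ∧ IsPGroup r E ∧
      ∀ w' ∈ D, (∀ e ∈ E, e • w' = w') → w' = w := by
    intro r hr hrt w hw
    have := Fact.mk hr
    obtain ⟨E'⟩ : Nonempty (Sylow r (W N w x)) := inferInstance
    refine ⟨(E' : Subgroup (W N w x)).map (W N w x).subtype, by rintro _ ⟨e, _, rfl⟩; exact e.2, E'.isPGroup'.map _, ?_⟩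
    intro w' hw' hfix
    by_contra hne
    have hEc : Nat.card ((E' : Subgroup (W N w x)).map (W N w x).subtype) = r ^ t.factorization r := by
      rw [Subgroup.card_map_of_injective (Subgroup.subtype_injective _), E'.card_eq_multiplicity,
        ht w hw.1 x hx hw.2.1]
    have h1 : (E' : Subgroup (W N w x)).map (W N w x).subtype ≤ S3 N w x w' := by
      rintro e he
      refine mem_S3.2 ⟨?_, hfix e he⟩
      obtain ⟨e', _, rfl⟩ := he
      exact e'.2
    have h2 := Subgroup.card_dvd_of_le h1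
    rw [hEc, T.card_S3 hx hw.1 hw'.1 hw.2.1.symm hw'.2.1.symm (Ne.symm hne), ha w hw w' hw' (Ne.symm hne)] at h2
    have h3 : r ^ t.factorization r * r ∣ t := by
      obtain ⟨c, hc⟩ := h2
      obtain ⟨d, hd⟩ := hrt
      refine ⟨c * d, ?_⟩
      calc t = Nat.card Q * (t / Nat.card Q) := (Nat.mul_div_cancel' hQt).symm
        _ = _ := by rw [hd, hc]; ring
    rw [← pow_succ] at h3
    exact Nat.pow_succ_factorization_not_dvd ht0.ne' hr h3
  -- a prime divisor of `t / |Q|`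
  have htQ : t / Nat.card Q ≠ 1 := by
    intro h
    apply hQne
    have := Nat.mul_div_cancel' hQt
    rw [h, mul_one] at this
    exact this
  -- `C`
  have hNAst : ∀ g ∈ T.NA x y, g • x = x ∧ ∀ w ∈ L, g • w ∈ L := by
    rintro _ ⟨n, hn, a, ha', rfl⟩
    refine ⟨?_, fun w hw => ?_⟩
    · rw [mul_smul, (mem_W.1 ha').2, T.fix x n hn]
    · rw [mul_smul]
      exact T.stab x hx n hn _ (T.stab y hy a (mem_W.1 ha').1 w hw)
  let C : Subgroup G := T.NA x y ⊓ Subgroup.centralizer (Q : Set G)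
  have hCQ : ∀ c ∈ C, ∀ q ∈ Q, q * c = c * q := by
    intro c hc q hq
    exact Subgroup.mem_centralizer_iff.1 hc.2 q hq
  have hCD : ∀ c ∈ C, ∀ w ∈ D, c • w ∈ D := fun c hc =>
    hpres c (hNAst c hc.1).1 (hNAst c hc.1).2 (hCQ c hc)
  have hWC : ∀ w ∈ D, W N w x ≤ C := by
    intro w hw b hb'
    refine Subgroup.mem_inf.2 ⟨?_, ?_⟩
    · obtain ⟨n, hn, hnw⟩ := T.trans x hx y hy w hw.1 hxy.symm hw.2.1
      have h1 : n⁻¹ * b * n ∈ W N y x := by
        refine mem_W.2 ⟨?_, ?_⟩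
        · have := T.conj n⁻¹ w b (mem_W.1 hb').1
          rw [inv_smul_eq_iff.2 hnw.symm, inv_inv] at this
          exact this
        · rw [mul_smul, mul_smul, T.fix x n hn, (mem_W.1 hb').2, inv_smul_eq_iff, T.fix x n hn]
      have h2 : b = (n * 1) * (1 * (n⁻¹ * b * n)) * (n * 1)⁻¹ := by group
      rw [h2]
      have h3 : n * 1 ∈ T.NA x y := ⟨n, hn, 1, one_mem _, rfl⟩
      exact mul_mem (mul_mem h3 ⟨1, one_mem _, _, h1, rfl⟩) (inv_mem h3)
    · show b ∈ Subgroup.centralizer (Q : Set G)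
      rw [Subgroup.mem_centralizer_iff]
      intro q hq
      exact hAQ w hw b hb' q hq
  -- transitivity of `C`
  have hCt : ∀ w ∈ D, w ∈ orbit C y := by
    intro w hw
    obtain ⟨r, hr, hrd⟩ := Nat.exists_prime_and_dvd htQ
    have := Fact.mk hr
    by_contra hwo
    have hO : orbit C y ⊆ D := by
      intro s hs
      rw [mem_orb] at hs
      obtain ⟨c, hc, rfl⟩ := hs
      exact hCD c hc y hyD
    have hOC : ∀ c ∈ C, ∀ s ∈ orbit C y, c • s ∈ orbit C y := by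
      intro c hc s hs
      rw [mem_orb] at hs ⊢
      obtain ⟨c', hc', rfl⟩ := hs
      exact ⟨c * c', mul_mem hc hc', mul_smul _ _ _⟩
    obtain ⟨E, hE, hEp, hEf⟩ := hb r hr hrd y hyD
    obtain ⟨E', hE', hEp', hEf'⟩ := hb r hr hrd w hw
    have h1 := fix_mod r E hEp (orbit C y) (fun g hg s hs => hOC g (hWC y hyD (hE hg)) s hs)
    have h2 := fix_mod r E' hEp' (orbit C y) (fun g hg s hs => hOC g (hWC w hw (hE' hg)) s hs)
    have h3 : {s | s ∈ orbit C y ∧ ∀ g ∈ E, g • s = s} = {y} := by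
      ext s
      simp only [Set.mem_ofPred_eq, Set.mem_singleton_iff]
      constructor
      · rintro ⟨hs, hs'⟩
        exact hEf s (hO hs) hs'
      · rintro rfl
        exact ⟨mem_orbit_self s, fun g hg => T.fix s g (mem_W.1 (hE hg)).1⟩
    have h4 : {s | s ∈ orbit C y ∧ ∀ g ∈ E', g • s = s} = ∅ := by
      ext s
      simp only [Set.mem_ofPred_eq, Set.mem_empty_iff_false, iff_false]
      rintro ⟨hs, hs'⟩
      exact hwo ((hEf' s (hO hs) hs') ▸ hs)
    rw [h3, Set.ncard_singleton] at h1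
    rw [h4, Set.ncard_empty] at h2
    have h5 : r ∣ 1 := (Nat.modEq_zero_iff_dvd).1 (h1.symm.trans h2)
    exact hr.one_lt.ne' (Nat.dvd_one.1 h5)
  -- (c)
  have hc : ∀ w ∈ D, ∃ n ∈ N x, n • y = w ∧ ∀ q ∈ Q, q * n = n * q := by
    intro w hw
    have h1 := hCt w hw
    rw [mem_orb] at h1
    obtain ⟨c, hc, hcw⟩ := h1
    obtain ⟨n, hn, a, ha', hna⟩ := hc.1
    refine ⟨n, hn, ?_, ?_⟩
    · rw [← hcw, hna, mul_smul, T.fix y a (mem_W.1 ha').1]
    · intro q hq
      have h2 := hCQ c hc q hq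
      have h3 := hAQ y hyD a ha' q hq
      have h4 : n = c * a⁻¹ := by rw [hna]; group
      have h5 : q * a⁻¹ = a⁻¹ * q := by
        rw [eq_inv_mul_iff_mul_eq, ← mul_assoc, ← h3]; group
      rw [h4, ← mul_assoc, h2, mul_assoc, h5, mul_assoc]
  -- (d) exponent
  have hexp : ∀ q ∈ Q, q ^ p = 1 := by
    obtain ⟨n, hn, hnz, hnQ⟩ := hc z hzD
    have hcomp : ∀ b ∈ S3 N y x z, ∀ j : ℕ, n ^ j * b * (n ^ j)⁻¹ = (n * b * n⁻¹ * b⁻¹) ^ j * b := by
      intro b hb' j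
      induction j with
      | zero => simp
      | succ j ihj =>
        have h1 := hnQ _ (T.psi_mem hxy hb' hn hnz)
        have h2 : ∀ j : ℕ, (n * b * n⁻¹ * b⁻¹) ^ j * n = n * (n * b * n⁻¹ * b⁻¹) ^ j := by
          intro j
          exact (Commute.pow_left (show Commute _ _ from h1) j)
        calc n ^ (j + 1) * b * (n ^ (j + 1))⁻¹ = n * (n ^ j * b * (n ^ j)⁻¹) * n⁻¹ := by rw [pow_succ']; group
          _ = n * (n * b * n⁻¹ * b⁻¹) ^ j * b * n⁻¹ := by rw [ihj]; group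
          _ = (n * b * n⁻¹ * b⁻¹) ^ j * n * b * n⁻¹ := by rw [h2]
          _ = (n * b * n⁻¹ * b⁻¹) ^ j * (n * b * n⁻¹ * b⁻¹) * b := by group
          _ = _ := by rw [← pow_succ]
    have hpQ : p ∣ Nat.card Q := (dvd_pow_self p (by omega)).trans hQd
    obtain ⟨⟨q₀, hq₀⟩, hq₀o⟩ := exists_prime_orderOf_dvd_card' (G := Q) p hpQ
    rw [Subgroup.orderOf_mk] at hq₀o
    obtain ⟨b₀, hb₀, hb₀q⟩ := T.psi_surj hx hy hz hxy hxz hyz hn hnz hq₀
    have hb₀1 : b₀ ≠ 1 := by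
      rintro rfl
      have : q₀ = 1 := by rw [← hb₀q]; group
      rw [this, orderOf_one] at hq₀o
      exact hp.out.one_lt.ne hq₀o
    have h1 : n ^ p * b₀ = b₀ * n ^ p := by
      have h2 := hcomp b₀ hb₀ p
      rw [hb₀q, ← hq₀o, pow_orderOf_eq_one, one_mul, hq₀o] at h2
      exact mul_inv_eq_iff_eq_mul.1 h2
    have h2 : (n ^ p) • y = y := T.fix_of_comm (mem_S3.1 hb₀).1.1 hb₀1 h1
    intro q hq
    obtain ⟨b, hb', rfl⟩ := T.psi_surj hx hy hz hxy hxz hyz hn hnz hq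
    have h3 := T.comm hxy (pow_mem hn p) h2 (mem_S3.1 hb').1.1 (mem_S3.1 hb').1.2
    have h4 := hcomp b hb' p
    rw [h3, mul_assoc, mul_inv_cancel, mul_one] at h4
    exact (right_eq_mul.1 h4)
  have hQp : IsPGroup p Q := by
    intro q
    refine ⟨1, Subtype.ext ?_⟩
    show (q : G) ^ p ^ 1 = 1
    rw [pow_one]; exact hexp q q.2
  have hQc : Nat.card Q = p ^ v := by
    obtain ⟨j, hj⟩ := IsPGroup.iff_card.1 hQp
    rw [hj] at hQt hQd ⊢
    have h1 : j ≤ v := (hp.out.pow_dvd_iff_le_factorization ht0.ne').1 hQt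
    have h2 : v ≤ j := (Nat.pow_dvd_pow_iff_le_right hp.out.one_lt).1 hQd
    rw [le_antisymm h1 h2]
  -- (e) the size of `D`
  have hDfin : D.Finite := Set.toFinite D
  have hDo : orbit (N x ⊓ Subgroup.centralizer (Q : Set G) : Subgroup G) y = D := by
    ext w
    rw [mem_orb]
    constructor
    · rintro ⟨c, hc', rfl⟩
      exact hpres c (T.fix x c hc'.1) (T.stab x hx c hc'.1)
        (fun q hq => Subgroup.mem_centralizer_iff.1 hc'.2 q hq) y hyD
    · intro hw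
      obtain ⟨n, hn, hnw, hnQ⟩ := hc w hw
      exact ⟨n, ⟨hn, Subgroup.mem_centralizer_iff.2 hnQ⟩, hnw⟩
  have hDd : D.ncard * p ^ v ∣ u * t := by
    rw [← T.card_N hL ht hx hy hxy, ← hQc]
    have h1 := card_orb (N x ⊓ Subgroup.centralizer (Q : Set G) : Subgroup G) y
    rw [hDo] at h1
    have h2 : Nat.card Q ∣ Nat.card ((N x ⊓ Subgroup.centralizer (Q : Set G)) ⊓ stabilizer G y : Subgroup G) := by
      apply Subgroup.card_dvd_of_le
      intro q hq
      exact ⟨⟨hQN q hq, Subgroup.mem_centralizer_iff.2 fun q' hq' => hQcomm q' hq' q hq⟩, (mem_S3.1 hq).1.2⟩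
    have h3 : Nat.card (N x ⊓ Subgroup.centralizer (Q : Set G) : Subgroup G) ∣ Nat.card (N x) :=
      Subgroup.card_dvd_of_le inf_le_left
    exact (Nat.mul_dvd_mul_left _ h2).trans (h1 ▸ h3)
  have hD0 : D.ncard ≠ 0 := Set.ncard_ne_zero_of_mem hyD
  have hDp : ∀ {r : ℕ}, r.Prime → r ∣ D.ncard → r = p := by
    intro r hr hrD
    have := Fact.mk hr
    by_contra hne
    have h1 : r ∣ t := by
      have h2 : r ∣ u * t := (hrD.trans (Dvd.intro _ rfl)).trans hDd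
      rcases (hr.dvd_mul).1 h2 with h | h
      · exact h.trans hut
      · exact h
    have h2 : r ∣ t / Nat.card Q := by
      rw [← Nat.mul_div_cancel' hQt] at h1
      rcases (hr.dvd_mul).1 h1 with h | h
      · rw [hQc] at h
        exact absurd ((Nat.prime_dvd_prime_iff_eq hr hp.out).1 (hr.dvd_of_dvd_pow h)) hne
      · exact h
    obtain ⟨E, hE, hEp, hEf⟩ := hb r hr h2 y hyD
    have h3 := fix_mod r E hEp D (fun g hg s hs => hCD g (hWC y hyD (hE hg)) s hs)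
    have h4 : {s | s ∈ D ∧ ∀ g ∈ E, g • s = s} = {y} := by
      ext s
      simp only [Set.mem_ofPred_eq, Set.mem_singleton_iff]
      constructor
      · rintro ⟨hs, hs'⟩
        exact hEf s hs hs'
      · rintro rfl
        exact ⟨hyD, fun g hg => T.fix s g (mem_W.1 (hE hg)).1⟩
    rw [h4, Set.ncard_singleton] at h3
    have h5 : r ∣ 1 := (Nat.modEq_zero_iff_dvd).1 (h3.symm.trans ((Nat.modEq_zero_iff_dvd).2 hrD))
    exact hr.one_lt.ne' (Nat.dvd_one.1 h5)
  have hDle : D.ncard ≤ p ^ v := by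
    have h1 := Nat.eq_prime_pow_of_unique_prime_dvd hD0 hDp
    set a := D.ncard.primeFactorsList.length with ha'
    rw [h1]
    apply Nat.pow_le_pow_right hp.out.pos
    rw [h1, ← pow_add] at hDd
    have hu0 : u ≠ 0 := by omega
    have h2 := (hp.out.pow_dvd_iff_le_factorization (mul_ne_zero hu0 ht0.ne')).1 hDd
    rw [Nat.factorization_mul hu0 ht0.ne', Finsupp.add_apply] at h2
    have h3 : u.factorization p ≤ t.factorization p :=
      (Nat.factorization_le_iff_dvd hu0 ht0.ne').2 hut p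
    omega
  -- (f)
  have h1 := card_orb (W N y x) z
  rw [ht y hy x hx hxy.symm] at h1
  have h2 : Nat.card (W N y x ⊓ stabilizer G z : Subgroup G) = p ^ v := by
    rw [← hQc]
    exact T.card_S3 hx hy hz hxy hxz hyz
  rw [h2] at h1
  have h3 : (orbit (W N y x) z).ncard ≤ D.ncard - 1 := by
    rw [← Set.ncard_sdiff_singleton_of_mem hyD]
    apply Set.ncard_le_ncard _ (Set.toFinite _)
    intro w hw
    rw [mem_orb] at hw
    obtain ⟨k, hk, rfl⟩ := hw
    refine ⟨hCD k (hWC y hyD hk) z hzD, ?_⟩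
    intro h
    have h4 : k • z = y := h
    exact hyz (MulAction.injective k ((T.fix y k (mem_W.1 hk).1).trans h4.symm))
  have hpv : 0 < p ^ v := Nat.pow_pos hp.out.pos
  calc t = (orbit (W N y x) z).ncard * p ^ v := h1.symm
    _ ≤ (D.ncard - 1) * p ^ v := Nat.mul_le_mul_right _ h3
    _ < p ^ v * p ^ v := by
        apply Nat.mul_lt_mul_of_pos_right _ hpv
        omega
    _ = _ := (sq _).symm

theorem TIS.caseII {t u : ℕ} (hL : L.ncard = u + 1) (hu2 : 2 ≤ u) (ht : ∀ x ∈ L, ∀ y ∈ L, x ≠ y → Nat.card (W N x y) = t)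
    (hut : u ∣ t) {x y z : X} (hx : x ∈ L) (hy : y ∈ L) (hz : z ∈ L) (hxy : x ≠ y) (hxz : x ≠ z) (hyz : y ≠ z)
    (hW : W N x y ≤ stabilizer G z)
    (hcore : ∀ p : ℕ, p.Prime → ∀ P : Subgroup G, P ≤ N x → IsPGroup p P →
      (∀ h ∈ N x, ∀ g ∈ P, h * g * h⁻¹ ∈ P) → P = ⊥) : False := by
  have hS : ∀ w ∈ W N x y, w ∈ S3 N x y z := fun w hw => mem_S3.2 ⟨hw, hW hw⟩
  obtain ⟨n, hn, hn1⟩ := zenkov (N x) (W N x y) (fun w hw => (mem_W.1 hw).1)
    (fun a ha b hb => T.S3_comm hx hy hz hxy hxz hyz (hS a ha) (hS b hb)) hcore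
  have ht0 : 0 < t := by
    rw [← ht x hx y hy hxy]; exact Nat.card_pos
  have htu : u ≤ t := Nat.le_of_dvd ht0 hut
  have h1 : ∀ w, w ∈ W N x y → w • (n • y) = n • y → w = 1 := by
    intro w hw hwy
    have h2 : w ∈ W N x y ⊓ cj n (W N x y) := by
      refine Subgroup.mem_inf.2 ⟨hw, mem_cj.2 (mem_W.2 ⟨mul_mem (mul_mem (inv_mem hn) (mem_W.1 hw).1) hn, ?_⟩)⟩
      rw [mul_smul, mul_smul, hwy, inv_smul_smul]
    rw [hn1, Subgroup.mem_bot] at h2
    exact h2
  by_cases hny : n • y = y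
  · -- `W` is trivial
    have h2 : W N x y = ⊥ := by
      rw [eq_bot_iff]
      intro w hw
      rw [Subgroup.mem_bot]
      exact h1 w hw (by rw [hny]; exact (mem_W.1 hw).2)
    have h3 := ht x hx y hy hxy
    rw [h2, Subgroup.card_bot] at h3
    omega
  · have h2 : W N x y ⊓ stabilizer G (n • y) = ⊥ := by
      rw [eq_bot_iff]
      intro w hw
      rw [Subgroup.mem_bot]
      exact h1 w hw.1 hw.2
    have h3 := card_orb (W N x y) (n • y)
    rw [h2, Subgroup.card_bot, mul_one, ht x hx y hy hxy] at h3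
    have hnyL : n • y ∈ L := T.stab x hx n hn y hy
    have hnyx : n • y ≠ x := by
      intro h
      exact hxy (MulAction.injective n ((T.fix x n hn).trans h.symm))
    have h4 : orbit (W N x y) (n • y) ⊆ (L \ {x}) \ {y} := by
      intro w hw
      rw [mem_orb] at hw
      obtain ⟨k, hk, rfl⟩ := hw
      have hk' := mem_W.1 hk
      refine ⟨⟨T.stab x hx k hk'.1 _ hnyL, ?_⟩, ?_⟩
      · intro h
        exact hnyx (MulAction.injective k (h.trans (T.fix x k hk'.1).symm))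
      · intro h
        exact hny (MulAction.injective k (h.trans hk'.2.symm))
    have h5 := Set.ncard_le_ncard h4 (Set.toFinite _)
    rw [Set.ncard_sdiff_singleton_of_mem (by exact ⟨hy, hxy.symm⟩), Set.ncard_sdiff_singleton_of_mem hx, hL, h3] at h5
    omega

/-- **(STAR)** -/
theorem TIS.star {t u : ℕ} (hL : L.ncard = u + 1) (hu2 : 2 ≤ u) (ht : ∀ x ∈ L, ∀ y ∈ L, x ≠ y → Nat.card (W N x y) = t)
    (hut : u ∣ t) (hfa : ∀ x ∈ L, ∀ n ∈ N x, (∀ z ∈ L, n • z = z) → n = 1) {x : X} (hx : x ∈ L)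
    (hcore : ∀ p : ℕ, p.Prime → ∀ P : Subgroup G, P ≤ N x → IsPGroup p P →
      (∀ h ∈ N x, ∀ g ∈ P, h * g * h⁻¹ ∈ P) → P = ⊥) : False := by
  obtain ⟨y, hy, hyx⟩ : ∃ y ∈ L, y ≠ x := by
    apply Set.exists_ne_of_one_lt_ncard
    omega
  have ht0 : 0 < t := by
    rw [← ht x hx y hy hyx.symm]; exact Nat.card_pos
  by_cases hII : ∃ y ∈ L, ∃ z ∈ L, x ≠ y ∧ x ≠ z ∧ y ≠ z ∧ W N x y ≤ stabilizer G z
  · obtain ⟨y, hy, z, hz, hxy, hxz, hyz, hW⟩ := hII
    exact T.caseII hL hu2 ht hut hx hy hz hxy hxz hyz hW hcore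
  · push Not at hII
    have hI := fun {p : ℕ} (hp : p.Prime) (hpu : p ∣ u) =>
      haveI := Fact.mk hp
      T.caseI hL hu2 ht hut hx (fun y hy z hz h1 h2 h3 => hII y hy z hz h1 h2 h3) (p := p) hpu
    obtain ⟨p, hp, hpu⟩ := Nat.exists_prime_and_dvd (show u ≠ 1 by omega)
    by_cases hall : ∀ {q : ℕ}, q.Prime → q ∣ u → q = p
    · have h1 := Nat.eq_prime_pow_of_unique_prime_dvd (show u ≠ 0 by omega) hall
      have := Fact.mk hp
      refine T.prime_power hfa hx hy hyx.symm (p := p) (e := u.primeFactorsList.length) ?_ ?_ ?_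
      · rw [Set.ncard_sdiff_singleton_of_mem hx, hL, ← h1]; rfl
      · rw [ht y hy x hx hyx]; exact hpu.trans hut
      · rw [T.card_N hL ht hx hy hyx.symm]; exact Dvd.dvd.mul_right hpu t
    · push Not at hall
      obtain ⟨q, hq, hqu, hqp⟩ := hall
      have h1 := hI hp hpu
      have h2 := hI hq hqu
      have h3 : p ^ t.factorization p * q ^ t.factorization q ≤ t := by
        apply Nat.le_of_dvd ht0
        apply Nat.Coprime.mul_dvd_of_dvd_of_dvd
        · exact Nat.Coprime.pow _ _ ((Nat.coprime_primes hp hq).2 (Ne.symm hqp))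
        · exact Nat.ordProj_dvd t p
        · exact Nat.ordProj_dvd t q
      nlinarith [Nat.mul_lt_mul'' h1 h2, Nat.mul_le_mul h3 h3]

end

end H8.Ito
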