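import Mathlib
import Cfsg.Agent.Lib.H8.Ito1
import Cfsg.Agent.Lib.H8.Ito4
import Cfsg.Agent.Lib.H1.Cores
import Cfsg.Agent.Lib.H1.FpfNilp
set_option autoImplicit false
set_option linter.unusedSectionVars false

/-!
Symmetric designs: the pointwise stabilizer of a block has a nontrivial normal `p`-subgroup.
-/

namespace H8.Ito
open MulAction Finset
open scoped Pointwise

section abel
variable {G : Type*} [Group G] [Finite G]

/-- from a nontrivial normal `p`-subgroup to a nontrivial abelian subgroup invariant under the normalizer -/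
theorem exists_abelian {p : ℕ} (hp : p.Prime) (K P : Subgroup G) (hPK : P ≤ K) (hP : IsPGroup p P)
    (hn : ∀ h ∈ K, ∀ g ∈ P, h * g * h⁻¹ ∈ P) (hP1 : P ≠ ⊥) :
    ∃ U : Subgroup G, U ≤ K ∧ U ≠ ⊥ ∧ (∀ x ∈ U, ∀ y ∈ U, x * y = y * x) ∧
      ∀ g : G, (∀ n ∈ K, g * n * g⁻¹ ∈ K) → ∀ u ∈ U, g * u * g⁻¹ ∈ U := by
  have := Fact.mk hp
  -- the `p`-core
  set O : Subgroup K := Cfsg.pCore p K with hO
  have hPO : P.subgroupOf K ≤ O := by
    apply H1.Cores.le_pCore
    · constructor
      intro n hn' g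
      exact hn g g.2 n hn'
    · exact hP.comap_of_injective K.subtype (Subgroup.subtype_injective K)
  have hOp : IsPGroup p O := H1.Cores.isPGroup_pCore p
  have hO1 : Nontrivial O := by
    rw [Subgroup.nontrivial_iff_ne_bot]
    intro h
    apply hP1
    rw [eq_bot_iff]
    intro g hg
    have h1 : (⟨g, hPK hg⟩ : K) ∈ O := hPO hg
    rw [h, Subgroup.mem_bot] at h1
    rw [Subgroup.mem_bot]
    exact congrArg Subtype.val h1
  have hC : Nontrivial (Subgroup.center O) := IsPGroup.center_nontrivial hOp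
  let U : Subgroup G := ((Subgroup.center O).map O.subtype).map K.subtype
  have hU : ∀ u : G, u ∈ U ↔ ∃ h : u ∈ K, (⟨u, h⟩ : K) ∈ O ∧ ∀ o ∈ O, o * (⟨u, h⟩ : K) = (⟨u, h⟩ : K) * o := by
    intro u
    constructor
    · rintro ⟨_, ⟨z, hz, rfl⟩, rfl⟩
      refine ⟨(z : K).2, z.2, fun o ho => ?_⟩
      have := Subgroup.mem_center_iff.1 hz ⟨o, ho⟩
      exact congrArg Subtype.val this
    · rintro ⟨h, h1, h2⟩
      refine ⟨⟨u, h⟩, ⟨⟨⟨u, h⟩, h1⟩, ?_, rfl⟩, rfl⟩
      show _ ∈ Subgroup.center O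
      rw [Subgroup.mem_center_iff]
      intro o
      exact Subtype.ext (h2 o o.2)
  refine ⟨U, ?_, ?_, ?_, ?_⟩
  · intro u hu
    exact ((hU u).1 hu).1
  · intro h
    obtain ⟨z, hz⟩ := exists_ne (1 : Subgroup.center O)
    apply hz
    have h1 : (((z : O) : K) : G) ∈ U := ⟨_, ⟨_, z.2, rfl⟩, rfl⟩
    rw [h, Subgroup.mem_bot] at h1
    exact Subtype.ext (Subtype.ext (Subtype.ext h1))
  · intro x hx y hy
    obtain ⟨h1, h2, h3⟩ := (hU x).1 hx
    obtain ⟨h4, h5, h6⟩ := (hU y).1 hy
    exact congrArg Subtype.val (h6 _ h2)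
  · intro g hg u hu
    obtain ⟨h1, h2, h3⟩ := (hU u).1 hu
    have hgn : g ∈ Subgroup.normalizer (K : Set G) := by
      rw [Subgroup.mem_normalizer_iff]
      intro n
      refine ⟨fun h => hg n h, fun h => ?_⟩
      -- finiteness
      have hm : K.map (MulAut.conj g).toMonoidHom = K := by
        apply Subgroup.eq_of_le_of_card_ge
        · rintro _ ⟨n, hn, rfl⟩; exact hg n hn
        · rw [Subgroup.card_map_of_injective (MulAut.conj g).injective]
      have h' : g * n * g⁻¹ ∈ K.map (MulAut.conj g).toMonoidHom := by rw [hm]; exact h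
      obtain ⟨n', hn', hne⟩ := h'
      have : n' = n := by
        have h7 : g * n' * g⁻¹ = g * n * g⁻¹ := hne
        exact mul_left_cancel (mul_right_cancel h7)
      rw [← this]; exact hn'
    let e : K ≃* K := K.normalizerMonoidHom ⟨g, hgn⟩
    have he : ∀ n : K, ((e n : K) : G) = g * n * g⁻¹ := fun n => rfl
    have hOe : O.map (e : K →* K) = O := H1.Cores.map_equiv_pCore p e
    refine (hU _).2 ⟨hg u h1, ?_, ?_⟩
    · have h7 : (⟨g * u * g⁻¹, hg u h1⟩ : K) = e ⟨u, h1⟩ := Subtype.ext (he ⟨u, h1⟩).symm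
      rw [h7, ← hOe]
      exact ⟨_, h2, rfl⟩
    · intro o ho
      rw [← hOe] at ho
      obtain ⟨o', ho', rfl⟩ := ho
      have h7 : (⟨g * u * g⁻¹, hg u h1⟩ : K) = e ⟨u, h1⟩ := Subtype.ext (he ⟨u, h1⟩).symm
      rw [h7]
      show e o' * e ⟨u, h1⟩ = e ⟨u, h1⟩ * e o'
      rw [← map_mul, h3 o' ho', map_mul]

/-- in a finite set invariant under `K` all of whose `K`-orbits have size `u`, `u` divides the size -/
theorem dvd_of_orbits {X : Type*} [MulAction G X] [Finite X] [DecidableEq X] (K : Subgroup G) (u : ℕ) :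
    ∀ (n : ℕ) (Y : Finset X), Y.card = n → (∀ g ∈ K, ∀ y ∈ Y, g • y ∈ Y) → (∀ y ∈ Y, (orbit K y).ncard = u) → u ∣ Y.card := by
  classical
  intro n
  induction n using Nat.strong_induction_on with
  | _ n ih =>
    intro Y hn hY hu
    rcases Y.eq_empty_or_nonempty with rfl | ⟨y, hy⟩
    · simp
    · have hsub : orbit K y ⊆ (Y : Set X) := by
        intro z hz
        rw [mem_orb] at hz
        obtain ⟨k, hk, rfl⟩ := hz
        exact hY k hk y hy
      have hfin : (orbit K y).Finite := Y.finite_toSet.subset hsub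
      set O := hfin.toFinset with hO
      have hOY : O ⊆ Y := by
        intro z hz
        exact hsub (hfin.mem_toFinset.1 hz)
      have hOc : O.card = u := by
        rw [← hu y hy, Set.ncard_eq_toFinset_card _ hfin]
      have hyO : y ∈ O := hfin.mem_toFinset.2 (mem_orbit_self y)
      have h1 : (Y \ O).card < n := by
        rw [← hn]
        apply Finset.card_lt_card
        refine Finset.ssubset_iff_subset_ne.2 ⟨Finset.sdiff_subset, ?_⟩
        intro h
        have : y ∈ Y \ O := by rw [h]; exact hy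
        exact (Finset.mem_sdiff.1 this).2 hyO
      have h2 := ih _ h1 (Y \ O) rfl (by
        intro g hg z hz
        rw [Finset.mem_sdiff] at hz ⊢
        refine ⟨hY g hg z hz.1, fun h => hz.2 ?_⟩
        rw [hfin.mem_toFinset, mem_orb] at h ⊢
        obtain ⟨k, hk, hkz⟩ := h
        exact ⟨g⁻¹ * k, mul_mem (inv_mem hg) hk, by rw [mul_smul, hkz, inv_smul_smul]⟩)
        (fun z hz => hu z (Finset.mem_sdiff.1 hz).1)
      have h3 := Finset.card_sdiff_add_card_inter Y O
      rw [Finset.inter_eq_right.2 hOY, hOc] at h3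
      rw [← h3]
      exact Nat.dvd_add h2 (dvd_refl u)

end abel

end H8.Ito
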