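import Mathlib
import Cfsg.Agent.Lib.H8.Ito5
import Cfsg.Agent.Lib.H30.Nil
set_option autoImplicit false
set_option linter.unusedSectionVars false

/-!
Symmetric designs: the pointwise stabilizer of a block has a nontrivial normal `p`-subgroup.
-/

namespace H8.Ito
open MulAction Finset
open scoped Pointwise

section grp
variable {G : Type*} [Group G] [Finite G]

theorem exists_core_of_abelian (K U : Subgroup G) (hUK : U ≤ K) (hU : ∀ x ∈ U, ∀ y ∈ U, x * y = y * x)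
    (hn : ∀ h ∈ K, ∀ g ∈ U, h * g * h⁻¹ ∈ U) (hU1 : U ≠ ⊥) :
    ∃ p : ℕ, p.Prime ∧ ∃ P : Subgroup G, P ≤ K ∧ IsPGroup p P ∧ (∀ h ∈ K, ∀ g ∈ P, h * g * h⁻¹ ∈ P) ∧ P ≠ ⊥ := by
  have hc : Nat.card U ≠ 1 := fun h => hU1 (Subgroup.card_eq_one.1 h)
  obtain ⟨p, hp, hpd⟩ := Nat.exists_prime_and_dvd hc
  have := Fact.mk hp
  obtain ⟨⟨u, hu⟩, huo⟩ := exists_prime_orderOf_dvd_card' (G := U) p hpd
  rw [Subgroup.orderOf_mk] at huo
  let P : Subgroup G :=
    { carrier := {g | g ∈ U ∧ g ^ p = 1}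
      one_mem' := ⟨one_mem _, one_pow _⟩
      mul_mem' := by
        rintro a b ⟨ha, ha'⟩ ⟨hb, hb'⟩
        refine ⟨mul_mem ha hb, ?_⟩
        rw [Commute.mul_pow (hU a ha b hb), ha', hb', one_mul]
      inv_mem' := by
        rintro a ⟨ha, ha'⟩
        exact ⟨inv_mem ha, by rw [inv_pow, ha', inv_one]⟩ }
  refine ⟨p, hp, P, fun g hg => hUK hg.1, ?_, ?_, ?_⟩
  · intro g
    refine ⟨1, Subtype.ext ?_⟩
    show (g : G) ^ p ^ 1 = 1
    rw [pow_one]; exact g.2.2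
  · intro h hh g hg
    exact ⟨hn h hh g hg.1, by rw [conj_pow, hg.2]; simp⟩
  · intro h
    have h1 : u ∈ P := ⟨hu, by rw [← huo]; exact pow_orderOf_eq_one u⟩
    rw [h, Subgroup.mem_bot] at h1
    rw [h1, orderOf_one] at huo
    exact hp.one_lt.ne huo

/-- Frobenius groups have normal `p`-subgroups -/
theorem exists_core_of_frob (K A : Subgroup G) (hAK : A ≤ K) (hA1 : A ≠ ⊥) (hA2 : A ≠ K)
    (hTI : ∀ g ∈ K, g ∉ A → ∀ a ∈ A, g⁻¹ * a * g ∈ A → a = 1) :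
    ∃ p : ℕ, p.Prime ∧ ∃ P : Subgroup G, P ≤ K ∧ IsPGroup p P ∧ (∀ h ∈ K, ∀ g ∈ P, h * g * h⁻¹ ∈ P) ∧ P ≠ ⊥ := by
  have hF : Cfsg.IsFrobeniusComplement (A.subgroupOf K) := by
    refine ⟨?_, ?_, ?_⟩
    · rw [Ne, Subgroup.subgroupOf_eq_bot]
      intro h
      apply hA1
      rw [← inf_eq_left.2 hAK]
      exact h.eq_bot
    · rw [Ne, Subgroup.subgroupOf_eq_top]
      intro h
      exact hA2 (le_antisymm hAK h)
    · intro g hg
      rw [eq_bot_iff]
      intro a ha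
      obtain ⟨ha1, ha2⟩ := Subgroup.mem_inf.1 ha
      rw [Subgroup.mem_pointwise_smul_iff_inv_smul_mem] at ha2
      rw [Subgroup.mem_bot]
      apply Subtype.ext
      refine hTI g g.2 hg a ha1 ?_
      have : (((MulAut.conj g)⁻¹ • a : K) : G) = (g : G)⁻¹ * a * g := by
        rw [← map_inv]
        show (((g⁻¹ : K) * a * (g⁻¹ : K)⁻¹ : K) : G) = _
        simp
      rw [← this]
      exact ha2
  obtain ⟨N, hN, hNn, hNc, hNnil⟩ := H1.FpfNilp.frobeniusKernel_nilpotent hF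
  have hN1 : N ≠ ⊥ := by
    intro h
    apply hF.2.1
    have := hNc.sup_eq_top
    rwa [h, bot_sup_eq] at this
  have hNnt : Nontrivial N := (Subgroup.nontrivial_iff_ne_bot N).2 hN1
  -- the centre of `N`
  have hZ : Nontrivial (Subgroup.center N) := by
    have := hNnil
    rw [Subgroup.nontrivial_iff_ne_bot]
    intro h
    have h1 := H30.Nil.inf_center_ne_bot (G := N) ⊤ (by
      intro h2
      exact hN1 (by
        rw [eq_bot_iff]
        intro n hn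
        have h3 : (⟨n, hn⟩ : N) ∈ (⊤ : Subgroup N) := Subgroup.mem_top _
        rw [h2, Subgroup.mem_bot] at h3
        rw [Subgroup.mem_bot]
        exact congrArg Subtype.val h3))
    rw [top_inf_eq] at h1
    exact h1 h
  let U : Subgroup G := ((Subgroup.center N).map N.subtype).map K.subtype
  refine exists_core_of_abelian K U ?_ ?_ ?_ ?_
  · rintro _ ⟨u, _, rfl⟩; exact u.2
  · rintro _ ⟨_, ⟨x, hx, rfl⟩, rfl⟩ _ ⟨_, ⟨y, hy, rfl⟩, rfl⟩
    have := Subgroup.mem_center_iff.1 hy x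
    exact congrArg (fun z : N => ((z : K) : G)) this
  · rintro h hh _ ⟨_, ⟨x, hx, rfl⟩, rfl⟩
    let h' : K := ⟨h, hh⟩
    refine ⟨h' * x * h'⁻¹, ⟨⟨h' * x * h'⁻¹, hNn.conj_mem x x.2 h'⟩, ?_, rfl⟩, rfl⟩
    show _ ∈ Subgroup.center N
    rw [Subgroup.mem_center_iff]
    intro n
    have h1 : h'⁻¹ * n * h' ∈ N := by
      have := hNn.conj_mem n n.2 h'⁻¹
      rwa [inv_inv] at this
    have h2 := congrArg Subtype.val (Subgroup.mem_center_iff.1 hx ⟨_, h1⟩)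
    apply Subtype.ext
    show (n : K) * (h' * x * h'⁻¹) = (h' * x * h'⁻¹) * n
    have h3 : h'⁻¹ * n * h' * x = x * (h'⁻¹ * n * h') := h2
    calc (n : K) * (h' * x * h'⁻¹) = h' * (h'⁻¹ * n * h' * x) * h'⁻¹ := by group
      _ = h' * (x * (h'⁻¹ * n * h')) * h'⁻¹ := by rw [h3]
      _ = _ := by group
  · intro h
    obtain ⟨z, hz⟩ := exists_ne (1 : Subgroup.center N)
    apply hz
    have h1 : (((z : N) : K) : G) ∈ U := ⟨_, ⟨_, z.2, rfl⟩, rfl⟩
    rw [h, Subgroup.mem_bot] at h1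
    exact Subtype.ext (Subtype.ext (Subtype.ext h1))

end grp

end H8.Ito
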