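import Mathlib
import Cfsg.Agent.Lib.H8.Ito6
set_option autoImplicit false
set_option linter.unusedSectionVars false

/-!
Symmetric designs: the pointwise stabilizer of a block has a nontrivial normal `p`-subgroup.
-/

namespace H8.Ito
open MulAction Finset
open scoped Pointwise

variable {G X Ω : Type*} [Group G] [Finite G] [MulAction G X] [MulAction G Ω] [FaithfulSMul G Ω]
  [Fintype X] [Fintype Ω] [DecidableEq X] [DecidableEq Ω]

/-- The pointwise stabilizer of a block. -/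
def Kr (I : X → Ω → Prop) (x : X) : Subgroup G where
  carrier := {g | g • x = x ∧ ∀ ω, I x ω → g • ω = ω}
  one_mem' := ⟨one_smul _ _, fun ω _ => one_smul _ ω⟩
  mul_mem' := by
    rintro a b ⟨ha, ha'⟩ ⟨hb, hb'⟩
    exact ⟨by rw [mul_smul, hb, ha], fun ω hω => by rw [mul_smul, hb' ω hω, ha' ω hω]⟩
  inv_mem' := by
    rintro a ⟨ha, ha'⟩
    exact ⟨by rw [inv_smul_eq_iff, ha], fun ω hω => by rw [inv_smul_eq_iff, ha' ω hω]⟩

variable {I : X → Ω → Prop} [∀ x ω, Decidable (I x ω)] {k l : ℕ}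

theorem mem_Kr {x : X} {g : G} : g ∈ Kr I x ↔ g • x = x ∧ ∀ ω, I x ω → g • ω = ω := Iff.rfl

theorem Kr_conj (hI : ∀ (g : G) x ω, I (g • x) (g • ω) ↔ I x ω) (g : G) (x : X) (n : G) (hn : n ∈ Kr I x) :
    g * n * g⁻¹ ∈ Kr I (g • x) := by
  obtain ⟨h1, h2⟩ := mem_Kr.1 hn
  refine ⟨?_, fun ω hω => ?_⟩
  · rw [mul_smul, mul_smul, inv_smul_smul, h1]
  · have h3 : I x (g⁻¹ • ω) := by rw [← hI g, smul_inv_smul]; exact hω
    rw [mul_smul, mul_smul, h2 _ h3, smul_inv_smul]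

theorem eq_one_of_fix {g : G} (h : ∀ ω : Ω, g • ω = ω) : g = 1 := by
  apply FaithfulSMul.eq_of_smul_eq_smul (α := Ω)
  intro ω
  rw [h ω, one_smul]

theorem exists_moved {g : G} (h : g ≠ 1) : ∃ ω : Ω, g • ω ≠ ω := by
  by_contra hcon
  push Not at hcon
  exact h (eq_one_of_fix hcon)

theorem Des.disj (D : Des I k l) (hI : ∀ (g : G) x ω, I (g • x) (g • ω) ↔ I x ω) (x y : X) (hxy : x ≠ y)
    (n : G) (hx : n ∈ Kr I x) (hy : n ∈ Kr I y) : n = 1 :=
  eq_one_of_fix (fun ω => D.ti hI hxy hx.1 hx.2 hy.1 hy.2 ω)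

/-- a homology fixes all blocks through its centre -/
theorem Des.fix_through (D : Des I k l) (hI : ∀ (g : G) x ω, I (g • x) (g • ω) ↔ I x ω) {x C : X} {y : G}
    (hy : y ∈ Kr I x) {a : Ω} (ha : ¬ I x a) (hya : y • a = a) (haC : I C a) : y • C = C := by
  by_contra hC
  have h1 := D.moved hI hy.1 hy.2 hC
  have h2 : a ∈ pts I C ∩ pts I (y • C) := by
    rw [Finset.mem_inter, mem_pts, mem_pts]
    refine ⟨haC, ?_⟩
    have := (hI y C a).2 haC
    rwa [hya] at this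
  rw [h1, Finset.mem_inter, mem_pts, mem_pts] at h2
  exact ha h2.2

theorem Des.fixed_iff (D : Des I k l) (hI : ∀ (g : G) x ω, I (g • x) (g • ω) ↔ I x ω) {x C : X} {y : G}
    (hy : y ∈ Kr I x) {c : Ω} (hc : y • c ≠ c) (hcC : I C c) : y • C = C ↔ I C (y • c) := by
  constructor
  · intro h
    have := (hI y C c).2 hcC
    rwa [h] at this
  · intro h
    by_contra hC
    exact D.not_inc hI hy.1 hy.2 hC hcC hc h

theorem Des.one_fixed (D : Des I k l) (hI : ∀ (g : G) x ω, I (g • x) (g • ω) ↔ I x ω) {x : X} {y : G}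
    (hy : y ∈ Kr I x) (hy1 : y ≠ 1) {a a' : Ω} (ha : ¬ I x a) (ha' : ¬ I x a') (haa : a ≠ a')
    (hya : y • a = a) (hya' : y • a' = a') : False := by
  -- a block through `a` but not through `a'`
  obtain ⟨C, hC⟩ : ∃ C, C ∈ blk I a \ blk I a' := by
    have := Finset.card_sdiff_add_card_inter (blk I a) (blk I a')
    rw [D.pk, D.pl _ _ haa] at this
    have h3 := D.lt
    have : 0 < (blk I a \ blk I a').card := by omega
    exact Finset.card_pos.1 this
  rw [Finset.mem_sdiff, mem_blk, mem_blk] at hC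
  have hyC := D.fix_through hI hy ha hya hC.1
  have hxC : x ≠ C := by rintro rfl; exact ha hC.1
  by_cases hall : ∀ c, I C c → y • c = c
  · exact hy1 (D.disj hI x C hxC y hy ⟨hyC, hall⟩)
  · push Not at hall
    obtain ⟨c, hcC, hc⟩ := hall
    have key : ∀ b, ¬ I x b → y • b = b → blk I c ∩ blk I b = blk I c ∩ blk I (y • c) := by
      intro b hb hyb
      have hcb : c ≠ b := by rintro rfl; exact hc hyb
      apply Finset.eq_of_subset_of_card_le
      · intro E hE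
        rw [Finset.mem_inter, mem_blk, mem_blk] at hE ⊢
        exact ⟨hE.1, (D.fixed_iff hI hy hc hE.1).1 (D.fix_through hI hy hb hyb hE.2)⟩
      · rw [D.pl _ _ hcb, D.pl _ _ (Ne.symm hc)]
    have h1 := key a ha hya
    have h2 := key a' ha' hya'
    have h3 : C ∈ blk I c ∩ blk I a := by
      rw [Finset.mem_inter, mem_blk, mem_blk]; exact ⟨hcC, hC.1⟩
    rw [h1, ← h2, Finset.mem_inter, mem_blk, mem_blk] at h3
    exact hC.2 h3.2

theorem Des.arith0 (D : Des I k l) : l * (Fintype.card Ω - k) = (k - 1) * (k - l) := by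
  have h1 := D.count
  have h2 := D.k2
  have h3 := D.kv
  have h4 := D.lt
  obtain ⟨w, hw⟩ : ∃ w, Fintype.card Ω = k + w := ⟨_, (Nat.add_sub_cancel' (by omega)).symm⟩
  obtain ⟨k', rfl⟩ : ∃ k', k = k' + 1 := ⟨k - 1, by omega⟩
  obtain ⟨m, hm⟩ : ∃ m, k' + 1 = l + m := ⟨_, (Nat.add_sub_cancel' (by omega)).symm⟩
  rw [hw] at h1 ⊢
  have e1 : k' + 1 + w - 1 = k' + w := by omega
  have e2 : k' + 1 + w - (k' + 1) = w := by omega
  have e3 : k' + 1 - 1 = k' := by omega
  have e4 : k' + 1 - l = m := by omega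
  rw [e1, e3, hm] at h1
  rw [e2, e3, e4]
  have : l * k' + l * w = l * k' + m * k' := by linarith [h1, add_mul l m k', mul_add l k' w]
  linarith

/-- number of fixed blocks -/
theorem Des.card_fixed (D : Des I k l) (hI : ∀ (g : G) x ω, I (g • x) (g • ω) ↔ I x ω) {x : X} {y : G}
    (hy : y ∈ Kr I x) (hsr : ∀ a, ¬ I x a → y • a ≠ a) :
    (univ.filter (fun C => C ≠ x ∧ y • C = C)).card = k - 1 := by
  have h4 := D.lt
  set F := univ.filter (fun C => C ≠ x ∧ y • C = C) with hF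
  have h1 : ∑ C ∈ F, (pts I C \ pts I x).card = ∑ a ∈ (pts I x)ᶜ, (blk I a ∩ blk I (y • a)).card := by
    simp only [Finset.card_eq_sum_ones]
    rw [Finset.sum_sigma', Finset.sum_sigma']
    have key : ∀ C a, (C ∈ F ∧ a ∈ pts I C \ pts I x) ↔ (a ∈ (pts I x)ᶜ ∧ C ∈ blk I a ∩ blk I (y • a)) := by
      intro C a
      rw [hF, Finset.mem_filter, Finset.mem_sdiff, Finset.mem_compl, Finset.mem_inter, mem_pts, mem_pts, mem_blk, mem_blk]
      constructor
      · rintro ⟨⟨_, h1, h2⟩, h3, h4⟩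
        exact ⟨h4, h3, (D.fixed_iff hI hy (hsr a h4) h3).1 h2⟩
      · rintro ⟨h1, h2, h3⟩
        refine ⟨⟨mem_univ _, ?_, (D.fixed_iff hI hy (hsr a h1) h2).2 h3⟩, h2, h1⟩
        rintro rfl; exact h1 h2
    refine Finset.sum_bij' (fun p _ => ⟨p.2, p.1⟩) (fun p _ => ⟨p.2, p.1⟩) ?_ ?_ ?_ ?_ ?_
    · rintro ⟨C, a⟩ h
      rw [Finset.mem_sigma] at h ⊢
      exact (key C a).1 h
    · rintro ⟨a, C⟩ h
      rw [Finset.mem_sigma] at h ⊢
      exact (key C a).2 h
    · rintro ⟨ω, x⟩ h; rfl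
    · rintro ⟨x, ω⟩ h; rfl
    · rintro ⟨ω, x⟩ h; rfl
  have h2 : ∀ C ∈ F, (pts I C \ pts I x).card = k - l := by
    intro C hC
    rw [hF, Finset.mem_filter] at hC
    have := Finset.card_sdiff_add_card_inter (pts I C) (pts I x)
    rw [D.bk, D.bl _ _ hC.2.1] at this
    omega
  have h3 : ∀ a ∈ (pts I x)ᶜ, (blk I a ∩ blk I (y • a)).card = l := by
    intro a ha
    rw [Finset.mem_compl, mem_pts] at ha
    exact D.pl _ _ (Ne.symm (hsr a ha))
  rw [Finset.sum_congr rfl h2, Finset.sum_congr rfl h3, Finset.sum_const, Finset.sum_const, Finset.card_compl,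
    D.bk, smul_eq_mul, smul_eq_mul, mul_comm (Fintype.card Ω - k) l, D.arith0] at h1
  exact Nat.eq_of_mul_eq_mul_right (by omega) h1

theorem card_filter_mem (A : Subgroup G) [Fintype G] [DecidablePred (· ∈ A)] [DecidableEq G] :
    (univ.filter (fun g => g ∈ A ∧ g ≠ 1)).card + 1 = Nat.card A := by
  have h1 : (univ.filter (fun g => g ∈ A)).card = Nat.card A := by
    rw [Nat.card_eq_fintype_card, Fintype.card_subtype]
  have h2 : univ.filter (fun g => g ∈ A ∧ g ≠ 1) = (univ.filter (fun g => g ∈ A)).erase 1 := by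
    ext g
    simp only [Finset.mem_filter, Finset.mem_univ, true_and, Finset.mem_erase]
    tauto
  rw [h2, Finset.card_erase_add_one (by simp [one_mem]), h1]

/-- the number `t` -/
theorem Des.count_t (D : Des I k l) (hI : ∀ (g : G) x ω, I (g • x) (g • ω) ↔ I x ω) {x : X} {t : ℕ}
    (hsr : ∀ y ∈ Kr (G := G) I x, y ≠ 1 → ∀ a, ¬ I x a → y • a ≠ a)
    (ht : ∀ C, C ≠ x → Nat.card (W (Kr (G := G) I) x C) = t) :
    l * (Nat.card (Kr (G := G) I x) - 1) = k * (t - 1) := by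
  classical
  have : Fintype G := Fintype.ofFinite G
  have hk2 := D.k2
  have h1 : ∑ y ∈ univ.filter (fun g : G => g ∈ Kr I x ∧ g ≠ 1), (univ.filter (fun C => C ≠ x ∧ y • C = C)).card =
      ∑ C ∈ univ.erase x, (univ.filter (fun g : G => g ∈ W (Kr I) x C ∧ g ≠ 1)).card := by
    simp only [Finset.card_eq_sum_ones]
    rw [Finset.sum_sigma', Finset.sum_sigma']
    refine Finset.sum_bij' (fun p _ => ⟨p.2, p.1⟩) (fun p _ => ⟨p.2, p.1⟩) ?_ ?_ ?_ ?_ ?_
    · rintro ⟨y, C⟩ h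
      simp only [Finset.mem_sigma, Finset.mem_filter, Finset.mem_univ, true_and, Finset.mem_erase, and_true] at h ⊢
      exact ⟨h.2.1, mem_W.2 ⟨h.1.1, h.2.2⟩, h.1.2⟩
    · rintro ⟨C, y⟩ h
      simp only [Finset.mem_sigma, Finset.mem_filter, Finset.mem_univ, true_and, Finset.mem_erase, and_true] at h ⊢
      exact ⟨⟨(mem_W.1 h.2.1).1, h.2.2⟩, h.1, (mem_W.1 h.2.1).2⟩
    · rintro ⟨ω, x⟩ h; rfl
    · rintro ⟨x, ω⟩ h; rfl
    · rintro ⟨ω, x⟩ h; rfl
  have h2 : ∀ y ∈ univ.filter (fun g : G => g ∈ Kr I x ∧ g ≠ 1), (univ.filter (fun C => C ≠ x ∧ y • C = C)).card = k - 1 := by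
    intro y hy
    rw [Finset.mem_filter] at hy
    exact D.card_fixed hI hy.2.1 (hsr y hy.2.1 hy.2.2)
  have h3 : ∀ C ∈ univ.erase x, (univ.filter (fun g : G => g ∈ W (Kr I) x C ∧ g ≠ 1)).card = t - 1 := by
    intro C hC
    have := card_filter_mem (G := G) (W (Kr I) x C)
    rw [ht C (Finset.ne_of_mem_erase hC)] at this
    omega
  have h4 := card_filter_mem (G := G) (Kr I x)
  rw [Finset.sum_congr rfl h2, Finset.sum_congr rfl h3, Finset.sum_const, Finset.sum_const,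
    Finset.card_erase_of_mem (mem_univ _), Finset.card_univ, smul_eq_mul, smul_eq_mul, D.card] at h1
  have h5 : (univ.filter (fun g : G => g ∈ Kr I x ∧ g ≠ 1)).card = Nat.card (Kr (G := G) I x) - 1 := by omega
  rw [h5] at h1
  have h6 := D.count
  apply Nat.eq_of_mul_eq_mul_right (show 0 < k - 1 by omega)
  calc l * (Nat.card (Kr (G := G) I x) - 1) * (k - 1) = l * ((Nat.card (Kr (G := G) I x) - 1) * (k - 1)) := by ring
    _ = l * ((Fintype.card Ω - 1) * (t - 1)) := by rw [h1]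
    _ = (l * (Fintype.card Ω - 1)) * (t - 1) := by ring
    _ = k * (k - 1) * (t - 1) := by rw [h6]
    _ = _ := by ring

end H8.Ito
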