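import Mathlib
import Cfsg.Agent.Lib.H8.Ito7
set_option autoImplicit false
set_option linter.unusedSectionVars false

/-!
Symmetric designs: the pointwise stabilizer of a block has a nontrivial normal `p`-subgroup.
-/

namespace H8.Ito
open MulAction Finset
open scoped Pointwise

theorem arith1 {l t u s k : ℕ} (hu : 1 ≤ u) (ht : 2 ≤ t) (h1 : l * (u * t - 1) = k * (t - 1)) (hk : k = l + t * s) :
    l * (u - 1) = s * (t - 1) ∧ k = l * u + s := by
  obtain ⟨t', rfl⟩ : ∃ t', t = t' + 1 := ⟨t - 1, by omega⟩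
  obtain ⟨u', rfl⟩ : ∃ u', u = u' + 1 := ⟨u - 1, by omega⟩
  have e1 : (u' + 1) * (t' + 1) - 1 = u' * t' + u' + t' := by
    have : (u' + 1) * (t' + 1) = u' * t' + u' + t' + 1 := by ring
    omega
  rw [e1, hk] at h1
  simp only [Nat.add_sub_cancel] at h1 ⊢
  have h2 : l * u' * (t' + 1) = s * t' * (t' + 1) := by nlinarith
  have h3 : l * u' = s * t' := Nat.eq_of_mul_eq_mul_right (by omega) h2
  refine ⟨h3, ?_⟩
  rw [hk]
  nlinarith

theorem arith2 {l t u s k : ℕ} (hu : 1 ≤ u) (ht : 2 ≤ t) (hl : 1 ≤ l) (h1 : l * (u - 1) = s * (t - 1)) (hk : k = l * u + s)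
    (hk1 : 1 ≤ k) (hs : 1 ≤ s) (hd1 : u ∣ k - 1) (hd2 : u ∣ l - 1) : u ∣ t := by
  obtain ⟨t', rfl⟩ : ∃ t', t = t' + 1 := ⟨t - 1, by omega⟩
  obtain ⟨u', rfl⟩ : ∃ u', u = u' + 1 := ⟨u - 1, by omega⟩
  obtain ⟨l', rfl⟩ : ∃ l', l = l' + 1 := ⟨l - 1, by omega⟩
  obtain ⟨s', rfl⟩ : ∃ s', s = s' + 1 := ⟨s - 1, by omega⟩
  simp only [Nat.add_sub_cancel] at h1 hd2
  have hd3 : u' + 1 ∣ s' := by
    rw [hk] at hd1
    have e : (l' + 1) * (u' + 1) + (s' + 1) - 1 = (l' + 1) * (u' + 1) + s' := by omega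
    rw [e] at hd1
    exact (Nat.dvd_add_right (Dvd.intro_left _ rfl)).1 hd1
  -- (u'+1) ∣ s' t' + t' + l' + 1 ...
  have e : (s' * t' + l') + (t' + 1) = (l' + 1) * (u' + 1) := by nlinarith
  have h2 : u' + 1 ∣ (s' * t' + l') + (t' + 1) := by rw [e]; exact Dvd.intro_left _ rfl
  exact (Nat.dvd_add_right (Nat.dvd_add (Dvd.dvd.mul_right hd3 t') hd2)).1 h2

theorem arith3 {l t u s k v j : ℕ} (hu : 1 ≤ u) (ht : 2 ≤ t) (hl : 1 ≤ l) (h1 : l * (u - 1) = s * (t - 1)) (hk : k = l * u + s)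
    (hlk : l < k) (hkv : k ≤ v) (h0 : l * (v - k) = (k - 1) * (k - l)) (hv : (1 + u * j) * (k - l) + l ≤ v) : j ≤ 1 := by
  by_contra hj
  have hj2 : 2 ≤ j := by omega
  obtain ⟨m, hm⟩ : ∃ m, k = l + m := ⟨k - l, by omega⟩
  obtain ⟨w, hw⟩ : ∃ w, v = k + w := ⟨v - k, by omega⟩
  have hm1 : 1 ≤ m := by omega
  have e1 : k - l = m := by omega
  have e2 : v - k = w := by omega
  rw [e1] at h0 hv
  rw [e2] at h0
  have h2 : u * j * m ≤ w := by nlinarith
  have h3 : l * (u * j) * m ≤ (k - 1) * m := by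
    calc l * (u * j) * m = l * (u * j * m) := by ring
      _ ≤ l * w := Nat.mul_le_mul_left _ h2
      _ = _ := h0
  have h4 : l * (u * j) ≤ k - 1 := Nat.le_of_mul_le_mul_right h3 hm1
  have h5 : s ≤ l * (u - 1) := by
    rw [h1]
    exact Nat.le_mul_of_pos_right s (by omega)
  have h6 : l * (u - 1) + l = l * u := by
    obtain ⟨u', rfl⟩ : ∃ u', u = u' + 1 := ⟨u - 1, by omega⟩
    simp only [Nat.add_sub_cancel]; ring
  have h7 : l * u * 2 ≤ l * (u * j) := by
    calc l * u * 2 ≤ l * u * j := Nat.mul_le_mul_left _ hj2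
      _ = _ := by ring
  omega

variable {G X Ω : Type*} [Group G] [Finite G] [MulAction G X] [MulAction G Ω] [FaithfulSMul G Ω]
  [Fintype X] [Fintype Ω] [DecidableEq X] [DecidableEq Ω]
variable {I : X → Ω → Prop} [∀ x ω, Decidable (I x ω)] {k l : ℕ}

theorem Kr_card_le (hI : ∀ (g : G) x ω, I (g • x) (g • ω) ↔ I x ω) (g : G) (x : X) :
    Nat.card (Kr (G := G) I x) ≤ Nat.card (Kr (G := G) I (g • x)) := by
  refine Nat.card_le_card_of_injective (fun n : Kr (G := G) I x => (⟨g * n * g⁻¹, Kr_conj hI g x n n.2⟩ : Kr (G := G) I (g • x))) ?_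
  intro a b h
  have h1 : g * (a : G) * g⁻¹ = g * b * g⁻¹ := congrArg Subtype.val h
  exact Subtype.ext (mul_left_cancel (mul_right_cancel h1))

theorem W_card_le (hI : ∀ (g : G) x ω, I (g • x) (g • ω) ↔ I x ω) (g : G) (x C : X) :
    Nat.card (W (Kr (G := G) I) x C) ≤ Nat.card (W (Kr (G := G) I) (g • x) (g • C)) := by
  refine Nat.card_le_card_of_injective (fun n : W (Kr (G := G) I) x C => (⟨g * n * g⁻¹, mem_W.2 ⟨Kr_conj hI g x n (mem_W.1 n.2).1, ?_⟩⟩ : W (Kr (G := G) I) (g • x) (g • C))) ?_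
  · rw [mul_smul, mul_smul, inv_smul_smul, (mem_W.1 n.2).2]
  intro a b h
  have h1 : g * (a : G) * g⁻¹ = g * b * g⁻¹ := congrArg Subtype.val h
  exact Subtype.ext (mul_left_cancel (mul_right_cancel h1))

theorem Des.star_main (D : Des I k l) (hI : ∀ (g : G) x ω, I (g • x) (g • ω) ↔ I x ω)
    (h2X : ∀ x y x' y' : X, x ≠ y → x' ≠ y' → ∃ g : G, g • x = x' ∧ g • y = y')
    (ho : ∀ (x : X) (a b : Ω), (I x a ↔ I x b) → ∃ g : G, g • x = x ∧ g • a = b)
    (hK : ∃ x, ∃ g ∈ Kr (G := G) I x, g ≠ 1) :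
    ∃ x, ∃ p : ℕ, p.Prime ∧ ∃ P : Subgroup G, P ≤ Kr I x ∧ IsPGroup p P ∧
      (∀ h ∈ Kr I x, ∀ g ∈ P, h * g * h⁻¹ ∈ P) ∧ P ≠ ⊥ := by
  classical
  by_contra hcon
  have hcore : ∀ (x : X) (p : ℕ), p.Prime → ∀ P : Subgroup G, P ≤ Kr I x → IsPGroup p P →
      (∀ h ∈ Kr I x, ∀ g ∈ P, h * g * h⁻¹ ∈ P) → P = ⊥ := by
    intro x p hp P h1 h2 h3
    by_contra h4
    exact hcon ⟨x, p, hp, P, h1, h2, h3, h4⟩
  obtain ⟨x₀, g₀, hg₀, hg₀1⟩ := hK
  have hk2 := D.k2
  have hkv := D.kv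
  have hlk := D.lt
  have hl1 := D.l_pos
  have hXc : 1 < Fintype.card X := by rw [D.card]; omega
  obtain ⟨C₀, hC₀⟩ := Fintype.exists_ne_of_one_lt_card hXc x₀
  -- semiregularity outside the block
  have hsr : ∀ x, ∀ y ∈ Kr (G := G) I x, y ≠ 1 → ∀ a, ¬ I x a → y • a ≠ a := by
    intro x y hy hy1 a ha hya
    have h1 := exists_core_of_frob (Kr (G := G) I x) (Kr (G := G) I x ⊓ stabilizer G a) inf_le_left (by
      intro h
      have : y ∈ Kr (G := G) I x ⊓ stabilizer G a := ⟨hy, hya⟩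
      rw [h, Subgroup.mem_bot] at this
      exact hy1 this) (by
      intro h
      -- another point
      obtain ⟨a', ha', haa'⟩ : ∃ a' ∈ (pts I x)ᶜ, a' ≠ a := by
        apply Finset.exists_mem_ne
        rw [Finset.card_compl, D.bk]; omega
      rw [Finset.mem_compl, mem_pts] at ha'
      obtain ⟨g, hgx, hga⟩ := ho x a a' (by simp [ha, ha'])
      have h2 : g⁻¹ * y * g ∈ Kr (G := G) I x := by
        have := Kr_conj hI g⁻¹ x y hy
        rwa [inv_smul_eq_iff.2 hgx.symm, inv_inv] at this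
      rw [← h] at h2
      have h3 : (g⁻¹ * y * g) • a = a := h2.2
      have h4 : y • a' = a' := by
        rw [mul_smul, mul_smul, hga, inv_smul_eq_iff, hga] at h3
        exact h3
      exact D.one_fixed hI hy hy1 ha ha' haa'.symm hya h4) (by
      intro g hg hgA b hb hgb
      by_contra hb1
      have h2 : g • a ≠ a := fun h => hgA ⟨hg, h⟩
      have h3 : ¬ I x (g • a) := by
        intro h
        apply ha
        rw [← hI g, hg.1]; exact h
      have h4 : b • (g • a) = g • a := by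
        have h5 : (g⁻¹ * b * g) • a = a := hgb.2
        rw [mul_smul, mul_smul, inv_smul_eq_iff] at h5
        exact h5
      exact D.one_fixed hI hb.1 hb1 ha h3 h2.symm hb.2 h4)
    obtain ⟨p, hp, P, h2, h3, h4, h5⟩ := h1
    exact h5 (hcore x p hp P h2 h3 h4)
  -- `t`
  obtain ⟨t, ht⟩ : ∃ t, ∀ x C, C ≠ x → Nat.card (W (Kr (G := G) I) x C) = t := by
    refine ⟨Nat.card (W (Kr (G := G) I) x₀ C₀), fun x C hC => ?_⟩
    apply le_antisymm
    · obtain ⟨g, rfl, rfl⟩ := h2X x C x₀ C₀ hC.symm hC₀.symm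
      exact W_card_le hI g x C
    · obtain ⟨g, rfl, rfl⟩ := h2X x₀ C₀ x C hC₀.symm hC.symm
      exact W_card_le hI g x₀ C₀
  -- `κ`
  obtain ⟨κ, hκ⟩ : ∃ κ, ∀ x, Nat.card (Kr (G := G) I x) = κ := by
    have hXt : ∀ x x' : X, ∃ g : G, g • x = x' := by
      intro x x'
      obtain ⟨y, hy⟩ := Fintype.exists_ne_of_one_lt_card hXc x
      obtain ⟨y', hy'⟩ := Fintype.exists_ne_of_one_lt_card hXc x'
      obtain ⟨g, hg, _⟩ := h2X x y x' y' hy.symm hy'.symm
      exact ⟨g, hg⟩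
    refine ⟨Nat.card (Kr (G := G) I x₀), fun x => ?_⟩
    apply le_antisymm
    · obtain ⟨g, rfl⟩ := hXt x x₀
      exact Kr_card_le hI g x
    · obtain ⟨g, rfl⟩ := hXt x₀ x
      exact Kr_card_le hI g x₀
  have ht2 : 2 ≤ t := by
    obtain ⟨a, ha⟩ := exists_moved (Ω := Ω) hg₀1
    obtain ⟨C, hC, hgC⟩ := D.exists_fixed hI hg₀.1 hg₀.2 ha
    rw [← ht x₀ C hC]
    have : Nontrivial (W (Kr (G := G) I) x₀ C) := ⟨⟨⟨g₀, mem_W.2 ⟨hg₀, hgC⟩⟩, 1, fun h => hg₀1 (congrArg Subtype.val h)⟩⟩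
    exact Finite.one_lt_card
  -- `u`
  obtain ⟨u, hu⟩ : ∃ u, ∀ x C, C ≠ x → (orbit (Kr (G := G) I x) C).ncard = u := by
    refine ⟨(orbit (Kr (G := G) I x₀) C₀).ncard, fun x C hC => ?_⟩
    have h1 := card_orb (Kr (G := G) I x) C
    have h2 := card_orb (Kr (G := G) I x₀) C₀
    have h3 : Nat.card (Kr (G := G) I x ⊓ stabilizer G C : Subgroup G) = t := ht x C hC
    have h4 : Nat.card (Kr (G := G) I x₀ ⊓ stabilizer G C₀ : Subgroup G) = t := ht x₀ C₀ hC₀
    rw [h3, hκ] at h1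
    rw [h4, hκ, ← h1] at h2
    exact (Nat.eq_of_mul_eq_mul_right (by omega) h2).symm
  have hκut : κ = u * t := by
    have h1 := card_orb (Kr (G := G) I x₀) C₀
    have h3 : Nat.card (Kr (G := G) I x₀ ⊓ stabilizer G C₀ : Subgroup G) = t := ht x₀ C₀ hC₀
    rw [h3, hκ, hu x₀ C₀ hC₀] at h1
    exact h1.symm
  have hu1 : 1 ≤ u := by
    rw [← hu x₀ C₀ hC₀]
    exact (Set.ncard_pos (Set.toFinite _)).2 ⟨C₀, mem_orbit_self C₀⟩
  have hu2 : 2 ≤ u := by
    by_contra h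
    have hu0 : u = 1 := by omega
    obtain ⟨a, ha⟩ := exists_moved (Ω := Ω) hg₀1
    apply ha
    apply D.faithful hI (g := g₀)
    intro C
    by_cases hC : C = x₀
    · rw [hC]; exact hg₀.1
    · have h1 := hu x₀ C hC
      rw [hu0, Set.ncard_eq_one] at h1
      obtain ⟨z, hz⟩ := h1
      have h2 : C ∈ orbit (Kr (G := G) I x₀) C := mem_orbit_self C
      have h3 : g₀ • C ∈ orbit (Kr (G := G) I x₀) C := mem_orb.2 ⟨g₀, hg₀, rfl⟩
      rw [hz, Set.mem_singleton_iff] at h2 h3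
      rw [h3, ← h2]
  -- the count
  have hcount : l * (u * t - 1) = k * (t - 1) := by
    have := D.count_t hI (x := x₀) (t := t) (hsr x₀) (ht x₀)
    rwa [hκ, hκut] at this
  -- `t ∣ k - l`
  have htd : t ∣ k - l := by
    have h1 : (pts I C₀ \ pts I x₀).card = k - l := by
      have := Finset.card_sdiff_add_card_inter (pts I C₀) (pts I x₀)
      rw [D.bk, D.bl _ _ hC₀] at this
      omega
    rw [← h1]
    refine dvd_of_orbits (W (Kr (G := G) I) x₀ C₀) t _ _ rfl ?_ ?_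
    · intro g hg ω hω
      rw [Finset.mem_sdiff, mem_pts, mem_pts] at hω ⊢
      obtain ⟨hg1, hg2⟩ := mem_W.1 hg
      refine ⟨?_, fun h => hω.2 ?_⟩
      · have := (hI g C₀ ω).2 hω.1
        rwa [hg2] at this
      · rw [← hI g, hg1.1]; exact h
    · intro ω hω
      rw [Finset.mem_sdiff, mem_pts, mem_pts] at hω
      have h2 := card_orb (W (Kr (G := G) I) x₀ C₀) ω
      have h3 : W (Kr (G := G) I) x₀ C₀ ⊓ stabilizer G ω = ⊥ := by
        rw [eq_bot_iff]
        intro g hg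
        rw [Subgroup.mem_bot]
        by_contra hg1
        exact hsr x₀ g hg.1.1 hg1 ω hω.2 hg.2
      rw [h3, Subgroup.card_bot, mul_one, ht x₀ C₀ hC₀] at h2
      exact h2
  obtain ⟨s, hs⟩ := htd
  have hks : k = l + t * s := by omega
  have hs1 : 1 ≤ s := by
    rcases Nat.eq_zero_or_pos s with h | h
    · subst h; omega
    · exact h
  obtain ⟨hA1, hA2⟩ := arith1 hu1 ht2 hcount hks
  -- orbits of `Kr x₀` on blocks
  have hinv : ∀ g ∈ Kr (G := G) I x₀, ∀ C c, I x₀ c → I C c → I (g • C) c := by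
    intro g hg C c hc hC
    have := (hI g C c).2 hC
    rwa [hg.2 c hc] at this
  have hne : ∀ g ∈ Kr (G := G) I x₀, ∀ C, C ≠ x₀ → g • C ≠ x₀ := by
    intro g hg C hC h
    exact hC (MulAction.injective g (h.trans hg.1.symm))
  obtain ⟨c, hc, c', hc', hcc⟩ : ∃ c ∈ pts I x₀, ∃ c' ∈ pts I x₀, c ≠ c' := by
    have : 1 < (pts I x₀).card := by rw [D.bk]; omega
    obtain ⟨c, hc, c', hc', h⟩ := Finset.one_lt_card.1 this
    exact ⟨c, hc, c', hc', h⟩
  rw [mem_pts] at hc hc'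
  have hd1 : u ∣ k - 1 := by
    have h1 : ((blk I c).erase x₀).card = k - 1 := by
      rw [Finset.card_erase_of_mem (by rw [mem_blk]; exact hc), D.pk]
    rw [← h1]
    refine dvd_of_orbits (Kr (G := G) I x₀) u _ _ rfl ?_ ?_
    · intro g hg C hC
      rw [Finset.mem_erase, mem_blk] at hC ⊢
      exact ⟨hne g hg C hC.1, hinv g hg C c hc hC.2⟩
    · intro C hC
      rw [Finset.mem_erase] at hC
      exact hu x₀ C hC.1
  have hd2 : u ∣ l - 1 := by
    have h1 : ((blk I c ∩ blk I c').erase x₀).card = l - 1 := by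
      rw [Finset.card_erase_of_mem (by rw [Finset.mem_inter, mem_blk, mem_blk]; exact ⟨hc, hc'⟩), D.pl _ _ hcc]
    rw [← h1]
    refine dvd_of_orbits (Kr (G := G) I x₀) u _ _ rfl ?_ ?_
    · intro g hg C hC
      rw [Finset.mem_erase, Finset.mem_inter, mem_blk, mem_blk] at hC ⊢
      exact ⟨hne g hg C hC.1, hinv g hg C c hc hC.2.1, hinv g hg C c' hc' hC.2.2⟩
    · intro C hC
      rw [Finset.mem_erase] at hC
      exact hu x₀ C hC.1
  have hut : u ∣ t := arith2 hu1 ht2 hl1 hA1 hA2 (by omega) hs1 hd1 hd2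
  -- the dual line
  let L : Set X := {E | ∀ ω, I x₀ ω → I C₀ ω → I E ω}
  have hx₀L : x₀ ∈ L := fun ω h _ => h
  have hC₀L : C₀ ∈ L := fun ω _ h => h
  set B := pts I x₀ ∩ pts I C₀ with hB
  have hBc : B.card = l := D.bl _ _ hC₀.symm
  have hBL : ∀ E ∈ L, B ⊆ pts I E := by
    intro E hE ω hω
    rw [hB, Finset.mem_inter, mem_pts, mem_pts] at hω
    rw [mem_pts]; exact hE ω hω.1 hω.2
  have hLint : ∀ E ∈ L, ∀ E' ∈ L, E ≠ E' → pts I E ∩ pts I E' = B := by
    intro E hE E' hE' hne'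
    symm
    apply Finset.eq_of_subset_of_card_le
    · exact Finset.subset_inter (hBL E hE) (hBL E' hE')
    · rw [D.bl _ _ hne', hBc]
  have hLst : ∀ E ∈ L, ∀ g ∈ Kr (G := G) I E, ∀ F ∈ L, g • F ∈ L := by
    intro E hE g hg F hF ω h1 h2
    have := (hI g F ω).2 (hF ω h1 h2)
    rwa [hg.2 ω (hE ω h1 h2)] at this
  set Lf : Finset X := univ.filter (fun E => E ∈ L) with hLf
  have hmLf : ∀ E, E ∈ Lf ↔ E ∈ L := by intro E; simp [hLf]
  have hLc : L.ncard = Lf.card := by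
    rw [← Set.ncard_coe_finset]
    congr 1
    ext E; simp [hmLf]
  have hLcard : L.ncard = u + 1 := by
    rw [hLc]
    have h1 : u ∣ (Lf.erase x₀).card := by
      refine dvd_of_orbits (Kr (G := G) I x₀) u _ _ rfl ?_ ?_
      · intro g hg C hC
        rw [Finset.mem_erase, hmLf] at hC ⊢
        exact ⟨hne g hg C hC.1, hLst x₀ hx₀L g hg C hC.2⟩
      · intro C hC
        rw [Finset.mem_erase] at hC
        exact hu x₀ C hC.1
    obtain ⟨j, hj⟩ := h1
    have hj1 : Lf.card = 1 + u * j := by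
      rw [← hj, Finset.card_erase_of_mem (by rw [hmLf]; exact hx₀L)]
      have : 0 < Lf.card := Finset.card_pos.2 ⟨x₀, by rw [hmLf]; exact hx₀L⟩
      omega
    have h2 : (Lf.biUnion (fun E => pts I E \ B)).card = ∑ E ∈ Lf, (pts I E \ B).card := by
      apply Finset.card_biUnion
      intro E hE E' hE' hne'
      show Disjoint (pts I E \ B) (pts I E' \ B)
      rw [Finset.disjoint_left]
      intro ω h3 h4
      rw [Finset.mem_sdiff] at h3 h4
      apply h3.2
      rw [← hLint E ((hmLf E).1 hE) E' ((hmLf E').1 hE') hne']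
      exact Finset.mem_inter.2 ⟨h3.1, h4.1⟩
    have h3 : ∀ E ∈ Lf, (pts I E \ B).card = k - l := by
      intro E hE
      rw [Finset.card_sdiff_of_subset (hBL E ((hmLf E).1 hE)), D.bk, hBc]
    rw [Finset.sum_congr rfl h3, Finset.sum_const, smul_eq_mul, hj1] at h2
    have h4 : (Lf.biUnion (fun E => pts I E \ B)).card ≤ Fintype.card Ω - l := by
      rw [← hBc, ← Finset.card_compl]
      apply Finset.card_le_card
      intro ω hω
      rw [Finset.mem_biUnion] at hω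
      obtain ⟨E, _, hω⟩ := hω
      rw [Finset.mem_compl]
      exact (Finset.mem_sdiff.1 hω).2
    have h5 : j ≤ 1 := by
      apply arith3 hu1 ht2 hl1 hA1 hA2 hlk (show k ≤ Fintype.card Ω by omega) D.arith0
      omega
    have h6 : 1 ≤ j := by
      rcases Nat.eq_zero_or_pos j with h | h
      · subst h
        have : 0 < (Lf.erase x₀).card := Finset.card_pos.2 ⟨C₀, by rw [Finset.mem_erase, hmLf]; exact ⟨hC₀, hC₀L⟩⟩
        omega
      · exact h
    have : j = 1 := by omega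
    rw [hj1, this]; omega
  -- the TI system
  have T : TIS (Kr (G := G) I) L :=
    { conj := fun g x n hn => Kr_conj hI g x n hn
      fix := fun x n hn => hn.1
      disj := fun x y hxy n hx hy => D.disj hI x y hxy n hx hy
      stab := hLst
      trans := by
        intro x hx y hy z hz hyx hzx
        have h1 : orbit (Kr (G := G) I x) y ⊆ L \ {x} := by
          intro w hw
          rw [mem_orb] at hw
          obtain ⟨g, hg, rfl⟩ := hw
          refine ⟨hLst x hx g hg y hy, fun h => hyx (MulAction.injective g (h.trans hg.1.symm))⟩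
        have h2 : orbit (Kr (G := G) I x) y = L \ {x} := by
          apply Set.eq_of_subset_of_ncard_le h1
          rw [hu x y hyx, Set.ncard_sdiff_singleton_of_mem hx, hLcard]
          omega
        have h3 : z ∈ orbit (Kr (G := G) I x) y := by rw [h2]; exact ⟨hz, hzx⟩
        exact mem_orb.1 h3 }
  by_cases hfa : ∀ x ∈ L, ∀ n ∈ Kr (G := G) I x, (∀ z ∈ L, n • z = z) → n = 1
  · exact T.star hLcard hu2 (fun x _ y _ hxy => ht x y hxy.symm) hut hfa hx₀L (hcore x₀)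
  · push Not at hfa
    obtain ⟨x, hx, n, hn, hnL, hn1⟩ := hfa
    -- the kernel on `L`
    let U : Subgroup G :=
      { carrier := {g | g ∈ Kr (G := G) I x ∧ ∀ z ∈ L, g • z = z}
        one_mem' := ⟨one_mem _, fun z _ => one_smul _ z⟩
        mul_mem' := by
          rintro a b ⟨ha, ha'⟩ ⟨hb, hb'⟩
          exact ⟨mul_mem ha hb, fun z hz => by rw [mul_smul, hb' z hz, ha' z hz]⟩
        inv_mem' := by
          rintro a ⟨ha, ha'⟩
          exact ⟨inv_mem ha, fun z hz => by rw [inv_smul_eq_iff, ha' z hz]⟩ }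
    obtain ⟨y, hy, hyx⟩ : ∃ y ∈ L, y ≠ x := by
      apply Set.exists_ne_of_one_lt_ncard
      omega
    obtain ⟨z, hz, hzy⟩ : ∃ z ∈ L \ {x}, z ≠ y := by
      apply Set.exists_ne_of_one_lt_ncard
      rw [Set.ncard_sdiff_singleton_of_mem hx]
      omega
    obtain ⟨p, hp, P, h1, h2, h3, h4⟩ := exists_core_of_abelian (Kr (G := G) I x) U (fun g hg => hg.1)
      (fun a ha b hb => T.S3_comm hx hy hz.1 hyx.symm (fun h => hz.2 h.symm) hzy.symm
        (mem_S3.2 ⟨⟨ha.1, ha.2 y hy⟩, ha.2 z hz.1⟩) (mem_S3.2 ⟨⟨hb.1, hb.2 y hy⟩, hb.2 z hz.1⟩))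
      (by
        intro h hh g hg
        refine ⟨mul_mem (mul_mem hh hg.1) (inv_mem hh), fun w hw => ?_⟩
        rw [mul_smul, mul_smul, hg.2 _ (hLst x hx h⁻¹ (inv_mem hh) w hw), smul_inv_smul])
      (by
        intro h
        have : n ∈ U := ⟨hn, hnL⟩
        rw [h, Subgroup.mem_bot] at this
        exact hn1 this)
    exact h4 (hcore x p hp P h1 h2 h3)

end H8.Ito
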