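import Mathlib
import Cfsg.Agent.Lib.H8.Ito8
set_option autoImplicit false
set_option linter.unusedSectionVars false

/-!
The situation of Ito's theorem yields the situation of O'Nan's theorem on ABELIAN normal subgroups
of point stabilizers.
-/

namespace H8.Ito
open MulAction Finset
open scoped Pointwise

variable {G Ω : Type*} [Group G] [Finite G] [MulAction G Ω] [FaithfulSMul G Ω] [Finite Ω]

theorem abelian_data (h2 : IsMultiplyPretransitive G Ω 2) (H : Subgroup G) (hidx : H.index = Nat.card Ω)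
    (hnt : ¬ IsPretransitive H Ω) (hfix : ∀ a : Ω, ∃ h : H, h • a ≠ a)
    (hunf : ∃ a : Ω, ∃ h : H, h ≠ 1 ∧ ∀ b ∈ orbit H a, h • b = b) :
    FaithfulSMul G (G ⧸ H) ∧ IsMultiplyPretransitive G (G ⧸ H) 2 ∧ ∃ (x : G ⧸ H) (N : Subgroup G),
      N ≤ stabilizer G x ∧ (∀ g ∈ stabilizer G x, ∀ n ∈ N, g * n * g⁻¹ ∈ N) ∧ IsMulCommutative N ∧
      (∃ n ∈ N, n ≠ 1 ∧ ∃ y : G ⧸ H, y ≠ x ∧ n • y = y) := by
  obtain ⟨hff, h22, -⟩ := onan_data h2 H hidx hnt hfix hunf
  refine ⟨hff, h22, ?_⟩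
  classical
  obtain ⟨a, h₀, hh₀, hh₀'⟩ := hunf
  have : Fintype Ω := Fintype.ofFinite Ω
  have : Fintype (G ⧸ H) := Fintype.ofFinite _
  have h2' : ∀ a b a' b' : Ω, a ≠ b → a' ≠ b' → ∃ g : G, g • a = a' ∧ g • b = b' :=
    fun a b a' b' h h' => is_two_pretransitive_iff.mp h2 h h'
  have h1' : ∀ a b : Ω, ∃ g : G, g • a = b := by
    have : IsPretransitive G Ω := isPretransitive_of_is_two_pretransitive
    exact fun a b => exists_smul_eq G a b
  let I : G ⧸ H → Ω → Prop := fun x ω => ∃ g : G, (g : G ⧸ H) = x ∧ ∃ b ∈ orbit H a, g • b = ω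
  have hI : ∀ (g : G) (x : G ⧸ H) (ω : Ω), I (g • x) (g • ω) ↔ I x ω := by
    have h : ∀ (g : G) (x : G ⧸ H) (ω : Ω), I x ω → I (g • x) (g • ω) := by
      rintro g x ω ⟨s, rfl, b, hb, rfl⟩
      exact ⟨g * s, rfl, b, hb, mul_smul _ _ _⟩
    intro g x ω
    refine ⟨fun h' => ?_, h g x ω⟩
    have := h g⁻¹ _ _ h'
    rwa [inv_smul_smul, inv_smul_smul] at this
  have hI1 : ∀ ω, I ((1 : G) : G ⧸ H) ω ↔ ω ∈ orbit H a := by
    intro ω
    constructor
    · rintro ⟨g, hg, b, hb, rfl⟩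
      have hg' : g ∈ H := by
        rw [QuotientGroup.eq] at hg
        simpa using hg
      exact (smul_mem_orb hg').2 hb
    · intro h
      exact ⟨1, rfl, ω, h, one_smul _ _⟩
  have hXt : ∀ x x' : G ⧸ H, ∃ g : G, g • x = x' := fun x x' => exists_smul_eq G x x'
  have hcard : Fintype.card (G ⧸ H) = Fintype.card Ω := by
    rw [← Nat.card_eq_fintype_card, ← Nat.card_eq_fintype_card, ← hidx]; rfl
  -- sizes
  have hk2 : 2 ≤ (pts I ((1 : G) : G ⧸ H)).card := by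
    obtain ⟨h, hh⟩ := hfix a
    refine Finset.one_lt_card.2 ⟨a, ?_, h • a, ?_, hh.symm⟩
    · rw [mem_pts, hI1]; exact mem_orbit_self a
    · rw [mem_pts, hI1]; exact mem_orbit a h
  obtain ⟨b, hb⟩ : ∃ b, b ∉ orbit H a := by
    by_contra h
    push Not at h
    apply hnt
    constructor
    intro x y
    obtain ⟨s, hs⟩ := h x
    obtain ⟨t, ht⟩ := h y
    refine ⟨t * s⁻¹, ?_⟩
    simp only at hs ht
    rw [mul_smul, ← hs, inv_smul_smul, ht]
  have hkv : (pts I ((1 : G) : G ⧸ H)).card + 2 ≤ Fintype.card Ω := by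
    obtain ⟨h, hh⟩ := hfix b
    have e1 : 2 ≤ (pts I ((1 : G) : G ⧸ H))ᶜ.card := by
      refine Finset.one_lt_card.2 ⟨b, ?_, h • b, ?_, hh.symm⟩
      · rw [Finset.mem_compl, mem_pts, hI1]; exact hb
      · rw [Finset.mem_compl, mem_pts, hI1]
        intro h3
        exact hb ((smul_mem_orb h.2).1 h3)
    rw [Finset.card_compl] at e1
    omega
  obtain ⟨l, D⟩ := exists_des hI hcard hXt h1' h2' _ hk2 hkv
  -- orbits of H
  have hor := H64.TwoOrbits.card_orbits_le_two h2 hidx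
  have ho : ∀ c d : Ω, (I ((1 : G) : G ⧸ H) c ↔ I ((1 : G) : G ⧸ H) d) →
      ∃ g : G, g • ((1 : G) : G ⧸ H) = ((1 : G) : G ⧸ H) ∧ g • c = d := by
    intro c d hcd
    rw [hI1, hI1] at hcd
    have h3 : d ∈ orbit H c := by
      by_cases hc : c ∈ orbit H a
      · have hd := hcd.1 hc
        rw [← orbit_eq_iff] at hc
        rw [hc]; exact hd
      · have hd : d ∉ orbit H a := fun h => hc (hcd.2 h)
        by_contra hdc
        have : Finite (orbitRel.Quotient H Ω) := Quotient.finite _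
        have := Fintype.ofFinite (orbitRel.Quotient H Ω)
        rw [Nat.card_eq_fintype_card] at hor
        have h4 : 2 < Fintype.card (orbitRel.Quotient H Ω) := by
          rw [Fintype.two_lt_card_iff]
          refine ⟨Quotient.mk _ a, Quotient.mk _ c, Quotient.mk _ d, ?_, ?_, ?_⟩
          · intro h
            have h5 : a ∈ orbit H c := Quotient.exact h
            exact hc ((mem_orbit_symm).1 h5)
          · intro h
            have h5 : a ∈ orbit H d := Quotient.exact h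
            exact hd ((mem_orbit_symm).1 h5)
          · intro h
            have h5 : c ∈ orbit H d := Quotient.exact h
            exact hdc ((mem_orbit_symm).1 h5)
        omega
    obtain ⟨s, hs⟩ := h3
    refine ⟨s, ?_, hs⟩
    rw [MulAction.Quotient.smul_mk, smul_eq_mul, mul_one, QuotientGroup.eq]
    simp
  have htr := D.trans hI ((1 : G) : G ⧸ H) ho
  have hst : ∀ g : G, g ∈ stabilizer G (((1 : G) : G ⧸ H)) ↔ g ∈ H := by
    intro g
    rw [mem_stabilizer_iff, MulAction.Quotient.smul_mk, smul_eq_mul, mul_one, QuotientGroup.eq]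
    simp
  have hker0 : ∀ y ∈ ker H a, y • ((1 : G) : G ⧸ H) = ((1 : G) : G ⧸ H) :=
    fun y hy => (hst y).2 hy.1
  have hker1 : ∀ y ∈ ker H a, ∀ ω, I ((1 : G) : G ⧸ H) ω → y • ω = ω :=
    fun y hy ω hω => hy.2 ω ((hI1 ω).1 hω)
  have h2X : ∀ x y x' y' : G ⧸ H, x ≠ y → x' ≠ y' → ∃ g : G, g • x = x' ∧ g • y = y' :=
    fun x y x' y' h h' => is_two_pretransitive_iff.mp h22 h h'
  have ho' : ∀ (x : G ⧸ H) (a b : Ω), (I x a ↔ I x b) → ∃ g : G, g • x = x ∧ g • a = b := by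
    intro x c d hcd
    obtain ⟨g, hg⟩ := hXt ((1 : G) : G ⧸ H) x
    obtain ⟨s, hs, hsc⟩ := ho (g⁻¹ • c) (g⁻¹ • d) (by
      rw [← hI g, ← hI g ((1 : G) : G ⧸ H) (g⁻¹ • d), smul_inv_smul, smul_inv_smul, hg]
      exact hcd)
    refine ⟨g * s * g⁻¹, ?_, ?_⟩
    · rw [mul_smul, mul_smul, inv_smul_eq_iff.2 hg.symm, hs, hg]
    · rw [mul_smul, mul_smul, hsc, smul_inv_smul]
  have hK : ∃ x, ∃ g ∈ Kr (G := G) I x, g ≠ 1 := by
    have hn : (h₀ : G) ∈ ker H a := ⟨h₀.2, hh₀'⟩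
    exact ⟨((1 : G) : G ⧸ H), h₀, ⟨hker0 _ hn, hker1 _ hn⟩, fun h => hh₀ (Subtype.ext h)⟩
  obtain ⟨x, p, hp, P, hPK, hPp, hPn, hP1⟩ := D.star_main hI h2X ho' hK
  obtain ⟨U, hUK, hU1, hUc, hUn⟩ := exists_abelian hp (Kr (G := G) I x) P hPK hPp hPn hP1
  refine ⟨x, U, fun u hu => (hUK hu).1, ?_, ?_, ?_⟩
  · intro g hg u hu
    refine hUn g (fun n hn => ?_) u hu
    have := Kr_conj hI g x n hn
    rwa [mem_stabilizer_iff.1 hg] at this
  · exact ⟨⟨fun a b => Subtype.ext (hUc a a.2 b b.2)⟩⟩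
  · obtain ⟨⟨u, hu⟩, hu1⟩ := (Subgroup.ne_bot_iff_exists_ne_one).1 hU1
    have hu1' : u ≠ 1 := fun h => hu1 (Subtype.ext h)
    obtain ⟨c, hc⟩ := exists_moved (Ω := Ω) hu1'
    exact ⟨u, hu, hu1', D.exists_fixed hI (hUK hu).1 (hUK hu).2 hc⟩

end H8.Ito
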