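import Cfsg.Agent.Lib.H8.M24Mem

/-!
Stabiliser chain of `M24`: order, generation by `x+1`, `-1/x`, cube twist, and 5-transitivity.
-/

set_option autoImplicit false

namespace H8.M24Chain

open Cfsg H8.GolayCode H8.GolayCount H8.GolayBasic H8.M24Mem
open scoped Pointwise

/-! ### generic pointwise stabilisers -/

/-- elements of `H` fixing every point of the list -/
def Fix {α : Type*} (H : Subgroup (Equiv.Perm α)) (s : List α) : Subgroup (Equiv.Perm α) where
  carrier := {g | g ∈ H ∧ ∀ x ∈ s, g x = x}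
  one_mem' := ⟨H.one_mem, fun _ _ => rfl⟩
  mul_mem' := by
    rintro a b ⟨ha, ha'⟩ ⟨hb, hb'⟩
    refine ⟨H.mul_mem ha hb, fun x hx => ?_⟩
    rw [Equiv.Perm.mul_apply, hb' x hx, ha' x hx]
  inv_mem' := by
    rintro a ⟨ha, ha'⟩
    refine ⟨H.inv_mem ha, fun x hx => ?_⟩
    rw [Equiv.Perm.inv_eq_iff_eq, ha' x hx]

theorem mem_Fix {α : Type*} {H : Subgroup (Equiv.Perm α)} {s : List α} {g : Equiv.Perm α} :
    g ∈ Fix H s ↔ g ∈ H ∧ ∀ x ∈ s, g x = x := Iff.rfl

/-- orbit of a point under a permutation group, as a set -/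
def Orb {α : Type*} (H : Subgroup (Equiv.Perm α)) (b : α) : Set α := {x | ∃ g ∈ H, g b = x}

theorem card_Fix_cons {α : Type*} [Finite α] (H : Subgroup (Equiv.Perm α)) (s : List α) (b : α) :
    Nat.card (Fix H s) = (Orb (Fix H s) b).ncard * Nat.card (Fix H (b :: s)) := by
  have h1 := (MulAction.stabilizer (Fix H s) b).card_mul_index
  have h2 := MulAction.index_stabilizer (Fix H s) b
  have h3 : MulAction.orbit (Fix H s) b = Orb (Fix H s) b := by
    ext x
    constructor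
    · rintro ⟨g, rfl⟩; exact ⟨g.1, g.2, rfl⟩
    · rintro ⟨g, hg, rfl⟩; exact ⟨⟨g, hg⟩, rfl⟩
  have h4 : Nat.card (MulAction.stabilizer (Fix H s) b) = Nat.card (Fix H (b :: s)) := by
    apply Nat.card_congr
    refine ⟨fun g => ⟨g.1.1, g.1.2.1, ?_⟩, fun g => ⟨⟨g.1, g.2.1, ?_⟩, ?_⟩, ?_, ?_⟩
    · intro x hx
      rw [List.mem_cons] at hx
      rcases hx with rfl | hx
      · exact g.2
      · exact g.1.2.2 x hx
    · intro x hx
      exact g.2.2 x (List.mem_cons_of_mem _ hx)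
    · exact g.2.2 b (List.mem_cons_self)
    · intro g; rfl
    · intro g; rfl
  rw [← h1, h2, h3, h4, mul_comm]

theorem Fix_nil {α : Type*} (H : Subgroup (Equiv.Perm α)) : Fix H [] = H := by
  ext g; simp [mem_Fix]

/-! ### words in the generators -/

/-- the group generated by `x+1`, `-1/x` and the cube twist -/
def K : Subgroup (Equiv.Perm GolayPt) := Subgroup.closure {gα, projInv, cubeTwist}

/-- letters -/
noncomputable def letP : ℕ → Equiv.Perm GolayPt
  | 0 => gα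
  | 1 => gα⁻¹
  | 2 => projInv
  | 3 => cubeTwist
  | _ => cubeTwist⁻¹

/-- packed tables of the letters -/
def letT : ℕ → ℕ
  | 0 => cα
  | 1 => 0xbd6939460f7358b525073148310416
  | 2 => cγ
  | 3 => cδ
  | _ => 0xbccb5585c87da098d1ac508f2190c0

theorem tab_inv {g : Equiv.Perm GolayPt} {c c' : ℕ} (h : ∀ p, idx (g p) = tab c (idx p))
    (hc : ∀ i < 24, tab c' i < 24 ∧ tab c (tab c' i) = i) : ∀ p, idx (g⁻¹ p) = tab c' (idx p) := by
  intro p
  have h1 := hc (idx p) (idx_lt p)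
  have h2 : g (pt (tab c' (idx p))) = p := by
    apply idx_injective
    rw [h, idx_pt _ h1.1, h1.2]
  have h3 : g⁻¹ p = pt (tab c' (idx p)) := by
    rw [Equiv.Perm.inv_eq_iff_eq, h2]
  rw [h3, idx_pt _ h1.1]

theorem tab_δ' : ∀ p, idx (cubeTwist⁻¹ p) = tab 0xbccb5585c87da098d1ac508f2190c0 (idx p) :=
  tab_inv tab_δ (by decide +kernel)

theorem letP_tab : ∀ (l : ℕ) (p : GolayPt), idx (letP l p) = tab (letT l) (idx p)
  | 0 => tab_α
  | 1 => tab_inv tab_α (by decide +kernel)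
  | 2 => tab_γ
  | 3 => tab_δ
  | _ + 4 => tab_δ'

theorem letP_mem : ∀ l : ℕ, letP l ∈ K
  | 0 => Subgroup.subset_closure (by simp [letP])
  | 1 => K.inv_mem (Subgroup.subset_closure (by simp))
  | 2 => Subgroup.subset_closure (by simp [letP])
  | 3 => Subgroup.subset_closure (by simp [letP])
  | _ + 4 => K.inv_mem (Subgroup.subset_closure (by simp))

theorem K_le : K ≤ M24 := by
  unfold K
  rw [Subgroup.closure_le]
  intro g hg
  simp only [Set.mem_insert_iff, Set.mem_singleton_iff] at hg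
  rcases hg with rfl | rfl | rfl
  · exact α_mem
  · exact γ_mem
  · exact δ_mem

/-- evaluation of a word -/
noncomputable def wordP (w : List ℕ) : Equiv.Perm GolayPt := (w.map letP).prod

/-- action of a word on an index -/
def wordN (w : List ℕ) (i : ℕ) : ℕ := w.foldr (fun l j => tab (letT l) j) i

theorem wordP_idx (w : List ℕ) (p : GolayPt) : idx (wordP w p) = wordN w (idx p) := by
  induction w with
  | nil => rfl
  | cons l w ih =>
    have : wordP (l :: w) = letP l * wordP w := by simp [wordP]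
    rw [this, Equiv.Perm.mul_apply, letP_tab, ih]
    rfl

theorem wordP_mem (w : List ℕ) : wordP w ∈ K := by
  apply K.list_prod_mem
  intro g hg
  rw [List.mem_map] at hg
  obtain ⟨l, _, rfl⟩ := hg
  exact letP_mem l

/-- orbit enumeration following a list of steps -/
def orbL (ws : List (List ℕ)) : List ℕ → List (ℕ × ℕ) → List ℕ
  | pts, [] => pts
  | pts, (q, k) :: st =>
    if pts.contains q then orbL ws (wordN (ws.getD k []) q :: pts) st else []

theorem orbL_spec (S : Subgroup (Equiv.Perm GolayPt)) (ws : List (List ℕ)) (hws : ∀ w ∈ ws, wordP w ∈ S)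
    (b : GolayPt) : ∀ (st : List (ℕ × ℕ)) (pts : List ℕ), (∀ q ∈ pts, ∃ g ∈ S, idx (g b) = q) →
      ∀ q ∈ orbL ws pts st, ∃ g ∈ S, idx (g b) = q := by
  intro st
  induction st with
  | nil => intro pts h; exact h
  | cons a st ih =>
    obtain ⟨q, k⟩ := a
    intro pts h
    unfold orbL
    split_ifs with hc
    · apply ih
      intro r hr
      rw [List.mem_cons] at hr
      rcases hr with rfl | hr
      · obtain ⟨g, hg, hgq⟩ := h q (by simpa using hc)
        have hw : wordP (ws.getD k []) ∈ S := by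
          by_cases hk : k < ws.length
          · rw [List.getD_eq_getElem _ _ hk]
            exact hws _ (List.getElem_mem hk)
          · rw [List.getD_eq_default _ _ (by omega)]
            simp only [wordP, List.map_nil, List.prod_nil]
            exact S.one_mem
        refine ⟨wordP (ws.getD k []) * g, S.mul_mem hw hg, ?_⟩
        rw [Equiv.Perm.mul_apply, wordP_idx, hgq]
      · exact h r hr
    · intro q hq; simp at hq

/-- level test -/
def lvl (ws : List (List ℕ)) (st : List (ℕ × ℕ)) (fix : List ℕ) (b : ℕ) (T : List ℕ) : Bool :=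
  (ws.all fun w => fix.all fun i => Nat.beq (wordN w i) i) && T.all fun t => (orbL ws [b] st).contains t

theorem lvl_spec {ws : List (List ℕ)} {st : List (ℕ × ℕ)} {fix : List ℕ} {b : ℕ} {T : List ℕ}
    (hb : b < 24) (hfix : ∀ i ∈ fix, i < 24) (h : lvl ws st fix b T = true) :
    ∀ t ∈ T, ∃ g ∈ Fix K (fix.map pt), idx (g (pt b)) = t := by
  unfold lvl at h
  rw [Bool.and_eq_true, List.all_eq_true, List.all_eq_true] at h
  obtain ⟨h1, h2⟩ := h
  intro t ht
  have h3 := h2 t ht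
  have h4 : t ∈ orbL ws [b] st := by simpa using h3
  refine orbL_spec (Fix K (fix.map pt)) ws ?_ (pt b) st [b] ?_ t h4
  · intro w hw
    refine ⟨wordP_mem w, ?_⟩
    intro x hx
    rw [List.mem_map] at hx
    obtain ⟨i, hi, rfl⟩ := hx
    have h5 := h1 w hw
    rw [List.all_eq_true] at h5
    have h6 := h5 i hi
    apply idx_injective
    rw [wordP_idx, idx_pt i (hfix i hi)]
    exact Nat.eq_of_beq_eq_true h6
  · intro q hq
    rw [List.mem_singleton] at hq
    subst hq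
    exact ⟨1, Subgroup.one_mem _, by simp [idx_pt q hb]⟩

/-- generator words for level 0 -/
def ws0 : List (List ℕ) := [[0], [2]]
def st0 : List (ℕ × ℕ) := [(23, 1), (0, 0), (1, 0), (1, 1), (2, 0), (2, 1), (3, 0), (3, 1), (11, 0), (4, 0), (4, 1), (15, 0), (12, 0), (12, 1), (5, 0), (5, 1), (17, 0), (16, 1), (13, 0), (13, 1), (6, 1), (7, 0), (19, 0)]
/-- generator words for level 1 -/
def ws1 : List (List ℕ) := [[0]]
def st1 : List (ℕ × ℕ) := [(0, 0), (1, 0), (2, 0), (3, 0), (4, 0), (5, 0), (6, 0), (7, 0), (8, 0), (9, 0), (10, 0), (11, 0), (12, 0), (13, 0), (14, 0), (15, 0), (16, 0), (17, 0), (18, 0), (19, 0), (20, 0), (21, 0)]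
/-- generator words for level 2 -/
def ws2 : List (List ℕ) := [[3], [1, 3, 3, 0, 0]]
def st2 : List (ℕ × ℕ) := [(1, 0), (1, 1), (18, 0), (18, 1), (2, 1), (4, 1), (6, 1), (5, 0), (5, 1), (17, 0), (17, 1), (12, 0), (12, 1), (21, 1), (20, 1), (11, 0), (13, 0), (13, 1), (10, 0), (10, 1), (22, 1)]
/-- generator words for level 3 -/
def ws3 : List (List ℕ) := [[4, 1, 4, 1, 4, 1], [3, 3, 1, 3, 3, 0, 0]]
def st3 : List (ℕ × ℕ) := [(2, 1), (20, 0), (20, 1), (11, 1), (9, 0), (9, 1), (22, 0), (22, 1), (8, 1), (10, 0), (10, 1), (14, 1), (3, 0), (6, 1), (12, 1), (15, 0), (13, 0), (4, 1), (5, 1), (7, 1)]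
/-- generator words for level 4 -/
def ws4 : List (List ℕ) := [[4, 1, 4, 1, 4, 1], [4, 4, 0, 0, 3, 0, 4, 0, 0]]
def st4 : List (ℕ × ℕ) := [(3, 0), (3, 1), (4, 1), (6, 1), (10, 0), (10, 1), (14, 0), (14, 1), (12, 1), (16, 0), (16, 1), (22, 1), (18, 0), (5, 1), (9, 0), (20, 0), (20, 1), (7, 1), (17, 1)]
/-- generator words for level 5 -/
def ws5 : List (List ℕ) := [[1, 3, 3, 1, 4, 0, 3, 0, 0, 0, 0]]
def st5 : List (ℕ × ℕ) := [(5, 0), (14, 0)]
/-- generator words for level 6 -/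
def ws6 : List (List ℕ) := [[1, 4, 4, 1, 4, 0, 0, 0, 3, 0, 4, 4], [4, 4, 0, 3, 0, 4, 0, 4, 0, 0, 0, 3], [3, 3, 1, 4, 1, 3, 1, 1, 1, 3, 1, 4], [4, 4, 0, 4, 0, 4, 0, 0, 0, 4, 0, 4, 4]]
def st6 : List (ℕ × ℕ) := [(4, 0), (4, 1), (4, 2), (4, 3), (12, 1), (12, 2), (12, 3), (21, 2), (21, 3), (11, 3), (20, 2), (20, 3), (22, 3), (15, 3), (19, 3)]


/-- The base points. -/
theorem level0 : ∀ t < 24, ∃ g ∈ Fix K ([].map pt), idx (g (pt 23)) = t := by
  have h : lvl ws0 st0 [] 23 (List.range 24) = true := by decide +kernel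
  intro t ht
  exact lvl_spec (by norm_num) (by simp) h t (by simpa using ht)

theorem level1 : ∀ t < 24, t ∉ [23] → ∃ g ∈ Fix K ([23].map pt), idx (g (pt 0)) = t := by
  have h : lvl ws1 st1 [23] 0 ((List.range 24).filter (· ∉ [23])) = true := by decide +kernel
  intro t ht ht'
  exact lvl_spec (by norm_num) (by simp) h t (by simpa using ⟨ht, by simpa using ht'⟩)

theorem level2 : ∀ t < 24, t ∉ [0, 23] → ∃ g ∈ Fix K ([0, 23].map pt), idx (g (pt 1)) = t := by
  have h : lvl ws2 st2 [0, 23] 1 ((List.range 24).filter (· ∉ [0, 23])) = true := by decide +kernel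
  intro t ht ht'
  exact lvl_spec (by norm_num) (by simp) h t (by simpa using ⟨ht, by simpa using ht'⟩)

theorem level3 : ∀ t < 24, t ∉ [1, 0, 23] → ∃ g ∈ Fix K ([1, 0, 23].map pt), idx (g (pt 2)) = t := by
  have h : lvl ws3 st3 [1, 0, 23] 2 ((List.range 24).filter (· ∉ [1, 0, 23])) = true := by decide +kernel
  intro t ht ht'
  exact lvl_spec (by norm_num) (by simp) h t (by simpa using ⟨ht, by simpa using ht'⟩)

theorem level4 : ∀ t < 24, t ∉ [2, 1, 0, 23] → ∃ g ∈ Fix K ([2, 1, 0, 23].map pt), idx (g (pt 3)) = t := by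
  have h : lvl ws4 st4 [2, 1, 0, 23] 3 ((List.range 24).filter (· ∉ [2, 1, 0, 23])) = true := by decide +kernel
  intro t ht ht'
  exact lvl_spec (by norm_num) (by simp) h t (by simpa using ⟨ht, by simpa using ht'⟩)

theorem level5 : ∀ t ∈ [5, 14, 17], ∃ g ∈ Fix K ([3, 2, 1, 0, 23].map pt), idx (g (pt 5)) = t := by
  have h : lvl ws5 st5 [3, 2, 1, 0, 23] 5 [5, 14, 17] = true := by decide +kernel
  exact lvl_spec (by norm_num) (by simp) h

theorem level6 : ∀ t < 24, t ∉ [3, 2, 1, 0, 23, 5, 14, 17] →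
    ∃ g ∈ Fix K ([5, 3, 2, 1, 0, 23].map pt), idx (g (pt 4)) = t := by
  have h : lvl ws6 st6 [5, 3, 2, 1, 0, 23] 4 ((List.range 24).filter (· ∉ [3, 2, 1, 0, 23, 5, 14, 17])) = true := by
    decide +kernel
  intro t ht ht'
  exact lvl_spec (by norm_num) (by simp) h t (by simpa using ⟨ht, by simpa using ht'⟩)

/-! ### upper bounds -/

theorem image_octad {g : Equiv.Perm GolayPt} (hg : g ∈ M24) {o : Finset GolayPt} (ho : o ∈ octads) :
    o.image g ∈ octads :=
  ⟨(mem_M24_iff g).1 hg o ho.1, by rw [Finset.card_image_of_injective _ g.injective]; exact ho.2⟩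

/-- an element of `M24` fixing five points of an octad fixes the octad -/
theorem fixes_octad {g : Equiv.Perm GolayPt} (hg : g ∈ M24) {o u : Finset GolayPt} (ho : o ∈ octads)
    (hu : 5 ≤ u.card) (huo : u ⊆ o) (hfix : ∀ x ∈ u, g x = x) : o.image g = o := by
  apply octad_unique (image_octad hg ho) ho hu _ huo
  intro x hx
  rw [Finset.mem_image]
  exact ⟨x, huo hx, hfix x hx⟩

/-- bitmask version -/
theorem fixes_mask {g : Equiv.Perm GolayPt} (hg : g ∈ M24) {F : List ℕ} (hF : ∀ i ∈ F, g (pt i) = pt i)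
    {m : ℕ} (hm : m < 2 ^ 24) (hc : cw (m % 4096) = m) (h8 : pop m = 8)
    (h5 : 5 ≤ ((Finset.range 24).filter fun i => i ∈ F ∧ m.testBit i = true).card) (x : GolayPt) :
    m.testBit (idx (g x)) = m.testBit (idx x) := by
  have ho : support₂ (wd m) ∈ octads := ⟨support_wd_mem_GS hm hc, by rw [card_support_wd hm, h8]⟩
  have hfix := fixes_octad hg (u := ((Finset.range 24).filter fun i => i ∈ F ∧ m.testBit i = true).image pt)
    ho ?_ ?_ ?_
  · have h1 : g x ∈ (support₂ (wd m)).image g ↔ x ∈ support₂ (wd m) := by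
      rw [Finset.mem_image]
      constructor
      · rintro ⟨y, hy, hxy⟩
        rwa [← g.injective hxy]
      · intro hx; exact ⟨x, hx, rfl⟩
    rw [hfix, mem_support_wd, mem_support_wd] at h1
    cases h2 : m.testBit (idx (g x)) <;> cases h3 : m.testBit (idx x) <;> simp_all
  · rw [Finset.card_image_of_injOn]
    · exact h5
    · intro i hi j hj hij
      simp only [Finset.coe_filter, Finset.mem_range] at hi hj
      have := congrArg idx hij
      rwa [idx_pt i hi.1, idx_pt j hj.1] at this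
  · intro p hp
    rw [Finset.mem_image] at hp
    obtain ⟨i, hi, rfl⟩ := hp
    simp only [Finset.mem_filter, Finset.mem_range] at hi
    rw [mem_support_wd, idx_pt i hi.1]
    exact hi.2.2
  · intro p hp
    rw [Finset.mem_image] at hp
    obtain ⟨i, hi, rfl⟩ := hp
    simp only [Finset.mem_filter, Finset.mem_range] at hi
    exact hF i hi.2.1

/-- boolean test: octad mask with at least five points in `F` -/
def okMask (F : List ℕ) (m : ℕ) : Bool :=
  decide (m < 2 ^ 24) && (Nat.beq (cw (m % 4096)) m && (Nat.beq (pop m) 8 &&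
    decide (5 ≤ ((Finset.range 24).filter fun i => i ∈ F ∧ m.testBit i = true).card)))

theorem fixes_okMask {g : Equiv.Perm GolayPt} (hg : g ∈ M24) {F : List ℕ} (hF : ∀ i ∈ F, g (pt i) = pt i)
    {m : ℕ} (hm : okMask F m = true) (x : GolayPt) :
    m.testBit (idx (g x)) = m.testBit (idx x) := by
  unfold okMask at hm
  simp only [Bool.and_eq_true, decide_eq_true_eq, Nat.beq_eq] at hm
  exact fixes_mask hg hF hm.1 hm.2.1 hm.2.2.1 hm.2.2.2 x

/-- octads with at least five base points -/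
def OL : List ℕ := [0xc12017, 0x82402f, 0xb01036, 0x843039, 0x50803d, 0x84805e, 0x21007b, 0x8900bc, 0x8081b3,
  0xc0237, 0xa0031d, 0x149f, 0xc0063a, 0x98081b, 0x293e, 0x800c75]

/-- Only the identity of `M24` fixes the seven base points. -/
theorem fix7 {g : Equiv.Perm GolayPt} (hg : g ∈ Fix M24 ([4, 5, 3, 2, 1, 0, 23].map pt)) : g = 1 := by
  obtain ⟨hg, hfix⟩ := hg
  have hF : ∀ i ∈ [4, 5, 3, 2, 1, 0, 23], g (pt i) = pt i := by
    intro i hi
    exact hfix _ (List.mem_map_of_mem hi)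
  have hok : ∀ m ∈ OL, okMask [4, 5, 3, 2, 1, 0, 23] m = true := by decide +kernel
  have h1' : ∀ x y : Fin 24, (∀ m ∈ OL, m.testBit y.1 = m.testBit x.1) →
      (∀ b ∈ [4, 5, 3, 2, 1, 0, 23], x.1 = b → y.1 = b) → x.1 ≠ 14 → x.1 ≠ 17 → y.1 = x.1 := by decide +kernel
  have h1 : ∀ x < 24, ∀ y < 24, (∀ m ∈ OL, m.testBit y = m.testBit x) →
      (∀ b ∈ [4, 5, 3, 2, 1, 0, 23], x = b → y = b) → x ≠ 14 → x ≠ 17 → y = x :=
    fun x hx y hy => h1' ⟨x, hx⟩ ⟨y, hy⟩
  have h2 : ∀ x < 24, x ≠ 14 → x ≠ 17 → g (pt x) = pt x := by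
    intro x hx hx1 hx2
    apply idx_injective
    rw [idx_pt x hx]
    refine h1 x hx _ (idx_lt _) ?_ ?_ hx1 hx2
    · intro m hm
      have := fixes_okMask hg hF (hok m hm) (pt x)
      rwa [idx_pt x hx] at this
    · rintro b hb rfl
      rw [hF x hb, idx_pt x hx]
  have hok2 : okMask ((List.range 24).filter fun i => i ≠ 14 ∧ i ≠ 17) 0x49f002 = true := by decide +kernel
  have hF2 : ∀ i ∈ ((List.range 24).filter fun i => i ≠ 14 ∧ i ≠ 17), g (pt i) = pt i := by
    intro i hi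
    simp only [List.mem_filter, List.mem_range, decide_eq_true_eq] at hi
    exact h2 i hi.1 hi.2.1 hi.2.2
  have h3' : ∀ x y : Fin 24, (Nat.testBit 0x49f002 y.1 = Nat.testBit 0x49f002 x.1) →
      (∀ m ∈ OL, m.testBit y.1 = m.testBit x.1) → (x.1 = 14 ∨ x.1 = 17) → (y.1 = x.1 ∨ (y.1 ≠ 14 ∧ y.1 ≠ 17)) := by
    decide +kernel
  have h3 : ∀ x < 24, ∀ y < 24, (Nat.testBit 0x49f002 y = Nat.testBit 0x49f002 x) →
      (∀ m ∈ OL, m.testBit y = m.testBit x) → (x = 14 ∨ x = 17) → (y = x ∨ (y ≠ 14 ∧ y ≠ 17)) :=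
    fun x hx y hy => h3' ⟨x, hx⟩ ⟨y, hy⟩
  have h4 : ∀ x < 24, g (pt x) = pt x := by
    intro x hx
    by_cases hx1 : x = 14 ∨ x = 17
    · have q1 := fixes_okMask hg hF2 hok2 (pt x)
      have q2 : ∀ m ∈ OL, m.testBit (idx (g (pt x))) = m.testBit x := by
        intro m hm
        have := fixes_okMask hg hF (hok m hm) (pt x)
        rwa [idx_pt x hx] at this
      rw [idx_pt x hx] at q1
      rcases h3 x hx (idx (g (pt x))) (idx_lt _) q1 q2 hx1 with h | h
      · apply idx_injective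
        rw [h, idx_pt x hx]
      · exfalso
        have h5 := h2 _ (idx_lt (g (pt x))) h.1 h.2
        rw [pt_idx] at h5
        have h6 := g.injective h5
        rw [h6, idx_pt x hx] at h
        rcases hx1 with hx1 | hx1
        · exact h.1 hx1
        · exact h.2 hx1
    · push Not at hx1
      exact h2 x hx hx1.1 hx1.2
  ext1 p
  have := h4 (idx p) (idx_lt p)
  rw [pt_idx] at this
  rw [this]; rfl

theorem card_fix7 : Nat.card (Fix M24 ([4, 5, 3, 2, 1, 0, 23].map pt)) = 1 := by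
  rw [Nat.card_eq_one_iff_unique]
  refine ⟨⟨fun a b => ?_⟩, ⟨1⟩⟩
  rw [Subtype.ext_iff, fix7 a.2, fix7 b.2]

theorem orb_le {s : List ℕ} {b : ℕ} {T : Finset ℕ}
    (h : ∀ g ∈ Fix M24 (s.map pt), idx (g (pt b)) ∈ T) :
    (Orb (Fix M24 (s.map pt)) (pt b)).ncard ≤ T.card := by
  have h1 : idx '' (Orb (Fix M24 (s.map pt)) (pt b)) ⊆ (T : Set ℕ) := by
    rintro _ ⟨x, ⟨g, hg, rfl⟩, rfl⟩
    exact h g hg
  rw [← Set.ncard_image_of_injective _ idx_injective, ← Set.ncard_coe_finset]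
  exact Set.ncard_le_ncard h1 (Finset.finite_toSet T)

theorem orb_ge {s : List ℕ} {b : ℕ} {T : Finset ℕ}
    (h : ∀ t ∈ T, ∃ g ∈ Fix K (s.map pt), idx (g (pt b)) = t) :
    T.card ≤ (Orb (Fix K (s.map pt)) (pt b)).ncard := by
  have h1 : (T : Set ℕ) ⊆ idx '' (Orb (Fix K (s.map pt)) (pt b)) := by
    intro t ht
    obtain ⟨g, hg, hgt⟩ := h t ht
    exact ⟨_, ⟨g, hg, rfl⟩, hgt⟩
  rw [← Set.ncard_image_of_injective _ idx_injective, ← Set.ncard_coe_finset]
  exact Set.ncard_le_ncard h1 (Set.toFinite _)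

/-- trivial upper bound: the orbit avoids the fixed points -/
theorem orb_le_trivial {s : List ℕ} {b : ℕ} (hb : b < 24) (hbs : b ∉ s) :
    (Orb (Fix M24 (s.map pt)) (pt b)).ncard ≤ ((Finset.range 24).filter (· ∉ s)).card := by
  apply orb_le
  intro g hg
  rw [Finset.mem_filter, Finset.mem_range]
  refine ⟨idx_lt _, fun hmem => ?_⟩
  have h1 := hg.2 (pt (idx (g (pt b)))) (List.mem_map_of_mem hmem)
  rw [pt_idx] at h1
  have h2 := g.injective h1
  rw [h2, idx_pt b hb] at hmem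
  exact hbs hmem

theorem orb5_le : (Orb (Fix M24 ([3, 2, 1, 0, 23].map pt)) (pt 5)).ncard ≤ 3 := by
  have : (3 : ℕ) = ({5, 14, 17} : Finset ℕ).card := by decide
  rw [this]
  apply orb_le
  intro g hg
  have hF : ∀ i ∈ [3, 2, 1, 0, 23], g (pt i) = pt i := fun i hi => hg.2 _ (List.mem_map_of_mem hi)
  have hok : okMask [3, 2, 1, 0, 23] 0x82402f = true := by decide +kernel
  have h1 := fixes_okMask hg.1 hF hok (pt 5)
  rw [idx_pt 5 (by norm_num)] at h1
  have h2 : ∀ y < 24, Nat.testBit 0x82402f y = Nat.testBit 0x82402f 5 → y ∉ [3, 2, 1, 0, 23] → y ∈ ({5, 14, 17} : Finset ℕ) := by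
    decide +kernel
  apply h2 _ (idx_lt _) h1
  intro hmem
  have h3 := hF _ hmem
  rw [pt_idx] at h3
  have h4 := g.injective h3
  rw [h4, idx_pt 5 (by norm_num)] at hmem
  simp at hmem

theorem orb6_le : (Orb (Fix M24 ([5, 3, 2, 1, 0, 23].map pt)) (pt 4)).ncard ≤ 16 := by
  have : (16 : ℕ) = ((Finset.range 24).filter (fun y => Nat.testBit 0x82402f y = false) : Finset ℕ).card := by decide +kernel
  rw [this]
  apply orb_le
  intro g hg
  have hF : ∀ i ∈ [5, 3, 2, 1, 0, 23], g (pt i) = pt i := fun i hi => hg.2 _ (List.mem_map_of_mem hi)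
  have hok : okMask [5, 3, 2, 1, 0, 23] 0x82402f = true := by decide +kernel
  have h1 := fixes_okMask hg.1 hF hok (pt 4)
  rw [idx_pt 4 (by norm_num)] at h1
  rw [Finset.mem_filter, Finset.mem_range]
  refine ⟨idx_lt _, ?_⟩
  rw [h1]
  decide

theorem card_M24_le : Nat.card M24 ≤ 244823040 := by
  have e0 := card_Fix_cons M24 ([].map pt) (pt 23)
  have e1 := card_Fix_cons M24 ([23].map pt) (pt 0)
  have e2 := card_Fix_cons M24 ([0, 23].map pt) (pt 1)
  have e3 := card_Fix_cons M24 ([1, 0, 23].map pt) (pt 2)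
  have e4 := card_Fix_cons M24 ([2, 1, 0, 23].map pt) (pt 3)
  have e5 := card_Fix_cons M24 ([3, 2, 1, 0, 23].map pt) (pt 5)
  have e6 := card_Fix_cons M24 ([5, 3, 2, 1, 0, 23].map pt) (pt 4)
  have u0 := orb_le_trivial (s := []) (b := 23) (by norm_num) (by simp)
  have u1 := orb_le_trivial (s := [23]) (b := 0) (by norm_num) (by simp)
  have u2 := orb_le_trivial (s := [0, 23]) (b := 1) (by norm_num) (by simp)
  have u3 := orb_le_trivial (s := [1, 0, 23]) (b := 2) (by norm_num) (by simp)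
  have u4 := orb_le_trivial (s := [2, 1, 0, 23]) (b := 3) (by norm_num) (by simp)
  rw [show ((Finset.range 24).filter (· ∉ ([] : List ℕ))).card = 24 by decide +kernel] at u0
  rw [show ((Finset.range 24).filter (· ∉ [23])).card = 23 by decide +kernel] at u1
  rw [show ((Finset.range 24).filter (· ∉ [0, 23])).card = 22 by decide +kernel] at u2
  rw [show ((Finset.range 24).filter (· ∉ [1, 0, 23])).card = 21 by decide +kernel] at u3
  rw [show ((Finset.range 24).filter (· ∉ [2, 1, 0, 23])).card = 20 by decide +kernel] at u4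
  have e6' : Nat.card (Fix M24 ([5, 3, 2, 1, 0, 23].map pt)) ≤ 16 * 1 := by
    rw [e6]
    exact Nat.mul_le_mul orb6_le (le_of_eq card_fix7)
  have e5' : Nat.card (Fix M24 ([3, 2, 1, 0, 23].map pt)) ≤ 3 * (16 * 1) := by
    rw [e5]; exact Nat.mul_le_mul orb5_le e6'
  have e4' : Nat.card (Fix M24 ([2, 1, 0, 23].map pt)) ≤ 20 * (3 * (16 * 1)) := by
    rw [e4]; exact Nat.mul_le_mul u4 e5'
  have e3' : Nat.card (Fix M24 ([1, 0, 23].map pt)) ≤ 21 * (20 * (3 * (16 * 1))) := by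
    rw [e3]; exact Nat.mul_le_mul u3 e4'
  have e2' : Nat.card (Fix M24 ([0, 23].map pt)) ≤ 22 * (21 * (20 * (3 * (16 * 1)))) := by
    rw [e2]; exact Nat.mul_le_mul u2 e3'
  have e1' : Nat.card (Fix M24 ([23].map pt)) ≤ 23 * (22 * (21 * (20 * (3 * (16 * 1))))) := by
    rw [e1]; exact Nat.mul_le_mul u1 e2'
  have e0' : Nat.card (Fix M24 (([] : List ℕ).map pt)) ≤ 24 * (23 * (22 * (21 * (20 * (3 * (16 * 1)))))) := by
    rw [e0]; exact Nat.mul_le_mul u0 e1'
  rw [List.map_nil, Fix_nil] at e0'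
  exact e0'

theorem card_K_ge : 244823040 ≤ Nat.card K := by
  have e0 := card_Fix_cons K ([].map pt) (pt 23)
  have e1 := card_Fix_cons K ([23].map pt) (pt 0)
  have e2 := card_Fix_cons K ([0, 23].map pt) (pt 1)
  have e3 := card_Fix_cons K ([1, 0, 23].map pt) (pt 2)
  have e4 := card_Fix_cons K ([2, 1, 0, 23].map pt) (pt 3)
  have e5 := card_Fix_cons K ([3, 2, 1, 0, 23].map pt) (pt 5)
  have e6 := card_Fix_cons K ([5, 3, 2, 1, 0, 23].map pt) (pt 4)
  have hm : ∀ {l : List ℕ} {t : ℕ}, t ∈ (Finset.range 24).filter (· ∉ l) → t < 24 ∧ t ∉ l := by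
    intro l t h; rwa [Finset.mem_filter, Finset.mem_range] at h
  have u0 := orb_ge (s := []) (b := 23) (T := (Finset.range 24).filter (· ∉ ([] : List ℕ))) (fun t h => level0 t (hm h).1)
  have u1 := orb_ge (s := [23]) (b := 0) (T := (Finset.range 24).filter (· ∉ [23])) (fun t h => level1 t (hm h).1 (hm h).2)
  have u2 := orb_ge (s := [0, 23]) (b := 1) (T := (Finset.range 24).filter (· ∉ [0, 23])) (fun t h => level2 t (hm h).1 (hm h).2)
  have u3 := orb_ge (s := [1, 0, 23]) (b := 2) (T := (Finset.range 24).filter (· ∉ [1, 0, 23])) (fun t h => level3 t (hm h).1 (hm h).2)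
  have u4 := orb_ge (s := [2, 1, 0, 23]) (b := 3) (T := (Finset.range 24).filter (· ∉ [2, 1, 0, 23])) (fun t h => level4 t (hm h).1 (hm h).2)
  have u5 := orb_ge (s := [3, 2, 1, 0, 23]) (b := 5) (T := {5, 14, 17}) (fun t h => level5 t (by simpa using h))
  have u6 := orb_ge (s := [5, 3, 2, 1, 0, 23]) (b := 4) (T := (Finset.range 24).filter (· ∉ [3, 2, 1, 0, 23, 5, 14, 17]))
    (fun t h => level6 t (hm h).1 (hm h).2)
  rw [show ((Finset.range 24).filter (· ∉ ([] : List ℕ))).card = 24 by decide +kernel] at u0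
  rw [show ((Finset.range 24).filter (· ∉ [23])).card = 23 by decide +kernel] at u1
  rw [show ((Finset.range 24).filter (· ∉ [0, 23])).card = 22 by decide +kernel] at u2
  rw [show ((Finset.range 24).filter (· ∉ [1, 0, 23])).card = 21 by decide +kernel] at u3
  rw [show ((Finset.range 24).filter (· ∉ [2, 1, 0, 23])).card = 20 by decide +kernel] at u4
  rw [show ({5, 14, 17} : Finset ℕ).card = 3 by decide +kernel] at u5
  rw [show ((Finset.range 24).filter (· ∉ [3, 2, 1, 0, 23, 5, 14, 17])).card = 16 by decide +kernel] at u6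
  have e6' : 16 * 1 ≤ Nat.card (Fix K ([5, 3, 2, 1, 0, 23].map pt)) := by
    rw [e6]
    exact Nat.mul_le_mul u6 Nat.card_pos
  have e5' : 3 * (16 * 1) ≤ Nat.card (Fix K ([3, 2, 1, 0, 23].map pt)) := by
    rw [e5]; exact Nat.mul_le_mul u5 e6'
  have e4' : 20 * (3 * (16 * 1)) ≤ Nat.card (Fix K ([2, 1, 0, 23].map pt)) := by
    rw [e4]; exact Nat.mul_le_mul u4 e5'
  have e3' : 21 * (20 * (3 * (16 * 1))) ≤ Nat.card (Fix K ([1, 0, 23].map pt)) := by
    rw [e3]; exact Nat.mul_le_mul u3 e4'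
  have e2' : 22 * (21 * (20 * (3 * (16 * 1)))) ≤ Nat.card (Fix K ([0, 23].map pt)) := by
    rw [e2]; exact Nat.mul_le_mul u2 e3'
  have e1' : 23 * (22 * (21 * (20 * (3 * (16 * 1))))) ≤ Nat.card (Fix K ([23].map pt)) := by
    rw [e1]; exact Nat.mul_le_mul u1 e2'
  have e0' : 24 * (23 * (22 * (21 * (20 * (3 * (16 * 1)))))) ≤ Nat.card (Fix K (([] : List ℕ).map pt)) := by
    rw [e0]; exact Nat.mul_le_mul u0 e1'
  rw [List.map_nil, Fix_nil] at e0'
  exact e0'

theorem K_eq : K = M24 := by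
  apply Subgroup.eq_of_le_of_card_ge K_le
  exact le_trans card_M24_le card_K_ge

theorem card_M24 : Nat.card M24 = 244823040 := by
  apply le_antisymm card_M24_le
  rw [← K_eq]; exact card_K_ge

/-! ### 5-transitivity -/

/-- Every 5-tuple of distinct points is the image of the base tuple. -/
theorem five_trans (x : Fin 5 → GolayPt) (hx : Function.Injective x) :
    ∃ g ∈ M24, g (pt 23) = x 0 ∧ g (pt 0) = x 1 ∧ g (pt 1) = x 2 ∧ g (pt 2) = x 3 ∧ g (pt 3) = x 4 := by
  have hne : ∀ i j : Fin 5, i ≠ j → x i ≠ x j := fun i j h h' => h (hx h')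
  -- step 0
  obtain ⟨g0, ⟨hg0, -⟩, h0⟩ := level0 (idx (x 0)) (idx_lt _)
  have k0 : g0 (pt 23) = x 0 := idx_injective h0
  -- step 1
  have aux : ∀ (g : Equiv.Perm GolayPt) (y z : GolayPt), y ≠ z → ∀ n, g (pt n) = z → idx (g⁻¹ y) ≠ n := by
    intro g y z hyz n hn h
    apply hyz
    have : g⁻¹ y = pt n := by rw [← h, pt_idx]
    rw [Equiv.Perm.inv_eq_iff_eq] at this
    rw [this, hn]
  obtain ⟨g1, ⟨hg1, f1⟩, h1⟩ := level1 (idx (g0⁻¹ (x 1))) (idx_lt _) (by
    simp only [List.mem_singleton]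
    exact aux g0 _ _ (hne 1 0 (by decide)) 23 k0)
  have f1a : g1 (pt 23) = pt 23 := f1 _ (by simp)
  have k1 : (g0 * g1) (pt 0) = x 1 := by
    have : g1 (pt 0) = g0⁻¹ (x 1) := idx_injective h1
    rw [Equiv.Perm.mul_apply, this]; simp
  have k1a : (g0 * g1) (pt 23) = x 0 := by rw [Equiv.Perm.mul_apply, f1a, k0]
  obtain ⟨g2, ⟨hg2, f2⟩, h2⟩ := level2 (idx ((g0 * g1)⁻¹ (x 2))) (idx_lt _) (by
    simp only [List.mem_cons, List.not_mem_nil, or_false, not_or]
    exact ⟨aux _ _ _ (hne 2 1 (by decide)) 0 k1, aux _ _ _ (hne 2 0 (by decide)) 23 k1a⟩)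
  have f2a : g2 (pt 23) = pt 23 := f2 _ (by simp)
  have f2b : g2 (pt 0) = pt 0 := f2 _ (by simp)
  have k2 : (g0 * g1 * g2) (pt 1) = x 2 := by
    have : g2 (pt 1) = (g0 * g1)⁻¹ (x 2) := idx_injective h2
    rw [Equiv.Perm.mul_apply, this]; simp
  have k2a : (g0 * g1 * g2) (pt 23) = x 0 := by rw [Equiv.Perm.mul_apply, f2a, k1a]
  have k2b : (g0 * g1 * g2) (pt 0) = x 1 := by rw [Equiv.Perm.mul_apply, f2b, k1]
  obtain ⟨g3, ⟨hg3, f3⟩, h3⟩ := level3 (idx ((g0 * g1 * g2)⁻¹ (x 3))) (idx_lt _) (by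
    simp only [List.mem_cons, List.not_mem_nil, or_false, not_or]
    exact ⟨aux _ _ _ (hne 3 2 (by decide)) 1 k2, aux _ _ _ (hne 3 1 (by decide)) 0 k2b,
      aux _ _ _ (hne 3 0 (by decide)) 23 k2a⟩)
  have f3a : g3 (pt 23) = pt 23 := f3 _ (by simp)
  have f3b : g3 (pt 0) = pt 0 := f3 _ (by simp)
  have f3c : g3 (pt 1) = pt 1 := f3 _ (by simp)
  have k3 : (g0 * g1 * g2 * g3) (pt 2) = x 3 := by
    have : g3 (pt 2) = (g0 * g1 * g2)⁻¹ (x 3) := idx_injective h3
    rw [Equiv.Perm.mul_apply, this]; simp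
  have k3a : (g0 * g1 * g2 * g3) (pt 23) = x 0 := by rw [Equiv.Perm.mul_apply, f3a, k2a]
  have k3b : (g0 * g1 * g2 * g3) (pt 0) = x 1 := by rw [Equiv.Perm.mul_apply, f3b, k2b]
  have k3c : (g0 * g1 * g2 * g3) (pt 1) = x 2 := by rw [Equiv.Perm.mul_apply, f3c, k2]
  obtain ⟨g4, ⟨hg4, f4⟩, h4⟩ := level4 (idx ((g0 * g1 * g2 * g3)⁻¹ (x 4))) (idx_lt _) (by
    simp only [List.mem_cons, List.not_mem_nil, or_false, not_or]
    exact ⟨aux _ _ _ (hne 4 3 (by decide)) 2 k3, aux _ _ _ (hne 4 2 (by decide)) 1 k3c,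
      aux _ _ _ (hne 4 1 (by decide)) 0 k3b, aux _ _ _ (hne 4 0 (by decide)) 23 k3a⟩)
  have f4a : g4 (pt 23) = pt 23 := f4 _ (by simp)
  have f4b : g4 (pt 0) = pt 0 := f4 _ (by simp)
  have f4c : g4 (pt 1) = pt 1 := f4 _ (by simp)
  have f4d : g4 (pt 2) = pt 2 := f4 _ (by simp)
  refine ⟨g0 * g1 * g2 * g3 * g4, ?_, ?_, ?_, ?_, ?_, ?_⟩
  · rw [← K_eq]
    exact K.mul_mem (K.mul_mem (K.mul_mem (K.mul_mem hg0 hg1) hg2) hg3) hg4
  · rw [Equiv.Perm.mul_apply, f4a, k3a]
  · rw [Equiv.Perm.mul_apply, f4b, k3b]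
  · rw [Equiv.Perm.mul_apply, f4c, k3c]
  · rw [Equiv.Perm.mul_apply, f4d, k3]
  · have : g4 (pt 3) = (g0 * g1 * g2 * g3)⁻¹ (x 4) := idx_injective h4
    rw [Equiv.Perm.mul_apply, this]; simp

/-- `M24` is 5-transitive, in explicit form. -/
theorem five_transitive (x y : Fin 5 → GolayPt) (hx : Function.Injective x) (hy : Function.Injective y) :
    ∃ g ∈ M24, ∀ i, g (x i) = y i := by
  obtain ⟨g, hg, a0, a1, a2, a3, a4⟩ := five_trans x hx
  obtain ⟨h, hh, b0, b1, b2, b3, b4⟩ := five_trans y hy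
  refine ⟨h * g⁻¹, M24.mul_mem hh (M24.inv_mem hg), ?_⟩
  intro i
  rw [Equiv.Perm.mul_apply]
  fin_cases i
  · show h (g⁻¹ (x 0)) = y 0
    rw [← a0, ← b0]; simp
  · show h (g⁻¹ (x 1)) = y 1
    rw [← a1, ← b1]; simp
  · show h (g⁻¹ (x 2)) = y 2
    rw [← a2, ← b2]; simp
  · show h (g⁻¹ (x 3)) = y 3
    rw [← a3, ← b3]; simp
  · show h (g⁻¹ (x 4)) = y 4
    rw [← a4, ← b4]; simp

end H8.M24Chain
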