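import Cfsg.Agent.Lib.H8.Y1c
import Cfsg.Agent.Lib.H12.Y2Def
import Cfsg.Agent.Lib.H28.GW8C
import Cfsg.Agent.Lib.H4.Burnside
import Cfsg.Agent.S3559
import Cfsg.Agent.S3972
import Cfsg.Agent.S0730

/-! Factorizations `G = AB` with `A` cyclic and `B` a `Z`-group: primitive groups. -/

set_option autoImplicit false
set_option linter.unusedVariables false

universe u v

namespace H8.Y1

open Subgroup MulAction

/-- the range of the permutation representation -/
theorem perm_equiv {X Ω : Type u} [Group X] [MulAction X Ω] [FaithfulSMul X Ω] :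
    ∃ e : X ≃* (toPermHom X Ω).range, ∀ x a, ((e x : Equiv.Perm Ω)) a = x • a :=
  ⟨MonoidHom.ofInjective MulAction.toPerm_injective, fun x a => rfl⟩

/-- a sharply 3-transitive group of degree `r + 1`, `r > 3` prime -/
theorem isP_of_conc {X Ω : Type u} [Group X] [Finite X] [Finite Ω] [MulAction X Ω] [FaithfulSMul X Ω]
    (h2 : ∀ a b c d : Ω, a ≠ b → c ≠ d → ∃ g : X, g • a = c ∧ g • b = d)
    (h : H12.Y2.Conc X Ω) {r : ℕ} (hr : Nat.card Ω = r + 1) (hr3 : 3 < r) : IsP X r := by
  classical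
  have := Fintype.ofFinite Ω
  have hrp : r.Prime := by
    have := h.prime
    rwa [hr, Nat.add_sub_cancel] at this
  obtain ⟨e, he⟩ := perm_equiv (X := X) (Ω := Ω)
  -- transitivity on the third point
  have h3 : ∀ a b c d : Ω, a ≠ b → c ≠ a → c ≠ b → d ≠ a → d ≠ b →
      ∃ g : X, g • a = a ∧ g • b = b ∧ g • c = d := by
    intro a b c d hab hca hcb hda hdb
    let F : (stabilizer X a ⊓ stabilizer X b : Subgroup X) → {w : Ω // w ≠ a ∧ w ≠ b} := fun g =>
      ⟨g.1 • c, by
        have h1 : g.1 • a = a := g.2.1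
        have h2 : g.1 • b = b := g.2.2
        constructor
        · intro h3
          apply hca
          have : g.1 • c = g.1 • a := by rw [h3, h1]
          exact (smul_left_cancel_iff g.1).1 this
        · intro h3
          apply hcb
          have : g.1 • c = g.1 • b := by rw [h3, h2]
          exact (smul_left_cancel_iff g.1).1 this⟩
    have hF : Function.Injective F := by
      intro x y hxy
      have h1 : x.1 • c = y.1 • c := congrArg Subtype.val hxy
      have hx := x.2; have hy := y.2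
      have h4 : (y.1⁻¹ * x.1) = 1 := by
        refine h.sharp a b c hab hca hcb _ ?_ ?_ ?_
        · exact mem_stabilizer_iff.1 ((stabilizer X a).mul_mem ((stabilizer X a).inv_mem hy.1) hx.1)
        · exact mem_stabilizer_iff.1 ((stabilizer X b).mul_mem ((stabilizer X b).inv_mem hy.2) hx.2)
        · rw [mul_smul, h1, inv_smul_smul]
      exact Subtype.ext (inv_mul_eq_one.1 h4).symm
    have hcard : Nat.card {w : Ω // w ≠ a ∧ w ≠ b} = Nat.card (stabilizer X a ⊓ stabilizer X b : Subgroup X) := by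
      rw [h.card a b hab]
      have h1 : (Finset.univ.filter (fun w : Ω => w ≠ a ∧ w ≠ b)) = ({a, b} : Finset Ω)ᶜ := by
        ext w; simp
      rw [Nat.card_eq_fintype_card, Fintype.card_subtype, h1, Finset.card_compl, Finset.card_pair hab,
        Nat.card_eq_fintype_card]
    have hbij : Function.Bijective F := (Nat.bijective_iff_injective_and_card F).2 ⟨hF, hcard.symm⟩
    obtain ⟨g, hg⟩ := hbij.2 ⟨d, hda, hdb⟩
    exact ⟨g.1, g.2.1, g.2.2, congrArg Subtype.val hg⟩
  have hMP : IsMultiplyPretransitive (toPermHom X Ω).range Ω 3 := by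
    constructor
    intro x y
    have hx01 : x 0 ≠ x 1 := fun h => absurd (x.injective h) (by decide)
    have hy01 : y 0 ≠ y 1 := fun h => absurd (y.injective h) (by decide)
    have hx02 : x 2 ≠ x 0 := fun h => absurd (x.injective h) (by decide)
    have hx12 : x 2 ≠ x 1 := fun h => absurd (x.injective h) (by decide)
    have hy02 : y 2 ≠ y 0 := fun h => absurd (y.injective h) (by decide)
    have hy12 : y 2 ≠ y 1 := fun h => absurd (y.injective h) (by decide)
    obtain ⟨g, hg0, hg1⟩ := h2 _ _ _ _ hx01 hy01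
    have hc0 : g • x 2 ≠ y 0 := by
      rw [← hg0]; intro h; exact hx02 ((smul_left_cancel_iff g).1 h)
    have hc1 : g • x 2 ≠ y 1 := by
      rw [← hg1]; intro h; exact hx12 ((smul_left_cancel_iff g).1 h)
    obtain ⟨k, hk0, hk1, hk2⟩ := h3 (y 0) (y 1) (g • x 2) (y 2) hy01 hc0 hc1 hy02 hy12
    refine ⟨e (k * g), ?_⟩
    ext i
    change ((e (k * g) : Equiv.Perm Ω)) (x i) = y i
    rw [he, mul_smul]
    fin_cases i
    · change k • g • x 0 = y 0
      rw [hg0, hk0]
    · change k • g • x 1 = y 1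
      rw [hg1, hk1]
    · exact hk2
  have hsh : ∀ x : Fin 3 ↪ Ω, stabilizer (toPermHom X Ω).range x = ⊥ := by
    intro x
    have hx01 : x 0 ≠ x 1 := fun h => absurd (x.injective h) (by decide)
    have hx02 : x 2 ≠ x 0 := fun h => absurd (x.injective h) (by decide)
    have hx12 : x 2 ≠ x 1 := fun h => absurd (x.injective h) (by decide)
    rw [eq_bot_iff]
    intro σ hσ
    obtain ⟨g, rfl⟩ := e.surjective σ
    have key : ∀ i, g • x i = x i := by
      intro i
      have h1 := congrArg (fun y : Fin 3 ↪ Ω => y i) (mem_stabilizer_iff.1 hσ)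
      change ((e g : Equiv.Perm Ω)) (x i) = x i at h1
      rwa [he] at h1
    have h1 := h.sharp (x 0) (x 1) (x 2) hx01 hx02 hx12 g (key 0) (key 1) (key 2)
    rw [h1, map_one, mem_bot]
  obtain ⟨F, i1, i2, hF, ⟨f⟩⟩ := Cfsg.Agent.S0730.result (α := Ω) (p := r) (f := 1) hrp (by omega) (by decide)
    (by rw [pow_one, ← Nat.card_eq_fintype_card, hr]) (toPermHom X Ω).range hMP hsh
  rw [pow_one] at hF
  exact ⟨hrp, hr3, F, i1, i2, hF, ⟨e.trans f⟩⟩

theorem hx (hY : H12.Y2.Y2T.{u, u}) : HXS.{u} := by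
  classical
  intro X Ω _ _ _ _ _ Γ hprim hcyc htr ⟨a0, hz⟩ hns
  have h2p : Fact (Nat.Prime 2) := ⟨Nat.prime_two⟩
  have hft := Fintype.ofFinite Ω
  have hneΩ : Nonempty Ω := ⟨a0⟩
  have htrX : IsPretransitive X Ω := hprim.toIsPretransitive
  have hfaith : ∀ g : X, (∀ w : Ω, g • w = w) → g = 1 := by
    intro g hg
    apply FaithfulSMul.eq_of_smul_eq_smul (α := Ω)
    intro w
    rw [hg w, one_smul]
  have hzg : ∀ a : Ω, IsZGroup (stabilizer X a) := by
    intro a
    obtain ⟨g, hg⟩ := exists_smul_eq X a a0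
    exact IsZGroup.of_injective (f := (stabilizerEquivStabilizer hg.symm).toMonoidHom)
      (stabilizerEquivStabilizer hg.symm).injective
  have hsr : ∀ g ∈ Γ, ∀ a : Ω, g • a = a → g = 1 := by
    intro g hg a ha
    apply hfaith
    intro w
    obtain ⟨k, hk, rfl⟩ := htr a w
    have h1 : g * k = k * g := by
      have := (IsCyclic.commGroup (α := Γ)).mul_comm ⟨g, hg⟩ ⟨k, hk⟩
      exact congrArg Subtype.val this
    rw [smul_smul, h1, ← smul_smul, ha]
  have hcardΓ : Nat.card Γ = Nat.card Ω := by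
    let F : Γ → Ω := fun g => g.1 • a0
    refine Nat.card_congr (Equiv.ofBijective F ⟨?_, ?_⟩)
    · intro x y hxy
      have h1 : x.1 • a0 = y.1 • a0 := hxy
      have h2 := hsr (y.1⁻¹ * x.1) (mul_mem (inv_mem y.2) x.2) a0 (by rw [mul_smul, h1, inv_smul_smul])
      exact Subtype.ext (inv_mul_eq_one.1 h2).symm
    · intro b
      obtain ⟨g, hg, h⟩ := htr a0 b
      exact ⟨⟨g, hg⟩, h⟩
  -- the degree is even
  have hev : Even (Nat.card Ω) := by
    by_contra hodd
    apply hns
    obtain ⟨P⟩ : Nonempty (Sylow 2 X) := inferInstance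
    obtain ⟨b, hb⟩ := P.2.nonempty_fixed_point_of_prime_not_dvd_card Ω (fun h => hodd (even_iff_two_dvd.2 h))
    have hle : (P : Subgroup X) ≤ stabilizer X b := by
      intro g hg
      exact hb ⟨g, hg⟩
    have hzb := hzg b
    have h1 : IsPGroup 2 ((P : Subgroup X).subgroupOf (stabilizer X b)) :=
      P.2.comap_of_injective _ (stabilizer X b).subtype_injective
    have h2 : IsCyclic ((P : Subgroup X).subgroupOf (stabilizer X b)) := h1.isCyclic_of_isZGroup
    have h3 : IsCyclic (P : Subgroup X) :=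
      isCyclic_of_surjective (subgroupOfEquivOfLe hle) (subgroupOfEquivOfLe hle).surjective
    exact H28.GW8.solvable_of_cyclic P h3
  have hpos : 0 < Nat.card Ω := Nat.card_pos
  have hn2 : 2 ≤ Nat.card Ω := by
    rcases hev with ⟨k, hk⟩
    omega
  -- small degrees
  have hcardX : ∀ n, Nat.card Ω = n → Nat.card X ≤ n.factorial := by
    intro n hn
    rw [← hn, ← Nat.card_perm]
    exact Nat.card_le_card_of_injective _ (MulAction.toPerm_injective (α := X) (β := Ω))
  have hne2 : Nat.card Ω ≠ 2 := by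
    intro h
    have h1 := hcardX 2 h
    apply hns
    have h3 : Nat.card X = 1 ∨ Nat.card X = 2 := by
      have : 0 < Nat.card X := Nat.card_pos
      have h4 : Nat.factorial 2 = 2 := rfl
      omega
    refine H4.Burnside.isSolvable_of_card_eq 2 3 Nat.prime_two Nat.prime_three (Nat.card X) X rfl ?_
    rcases h3 with h3 | h3
    · exact ⟨0, 0, by rw [h3]; rfl⟩
    · exact ⟨1, 0, by rw [h3]; rfl⟩
  -- 2-transitivity
  have h2t : IsMultiplyPretransitive X Ω 2 := by
    by_cases hpp : IsPrimePow (Nat.card Ω)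
    · obtain ⟨p, m, hp, hm0, hpm⟩ := (isPrimePow_nat_iff _).1 hpp
      have hp2 : p = 2 := by
        have h1 : 2 ∣ p ^ m := by rw [hpm]; exact even_iff_two_dvd.1 hev
        exact ((Nat.prime_dvd_prime_iff_eq Nat.prime_two hp).1 (Nat.prime_two.dvd_of_dvd_pow h1)).symm
      subst hp2
      have hm : 2 ≤ m := by
        by_contra h
        have : m = 1 := by omega
        rw [this, pow_one] at hpm
        exact hne2 hpm.symm
      obtain ⟨e, he⟩ := perm_equiv (X := X) (Ω := Ω)
      obtain ⟨g, hg⟩ := IsCyclic.exists_generator (α := Γ)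
      have hog : orderOf (g : X) = 2 ^ m := by
        rw [orderOf_coe, orderOf_eq_card_of_forall_mem_zpowers hg, hcardΓ, hpm]
      by_contra hnot
      have htr' : IsPretransitive (toPermHom X Ω).range Ω := by
        constructor
        intro a b
        obtain ⟨x, hx⟩ := exists_smul_eq X a b
        exact ⟨e x, by rw [← hx, ← he x a]; rfl⟩
      have hnot' : ¬ IsMultiplyPretransitive (toPermHom X Ω).range Ω 2 := by
        intro h
        apply hnot
        rw [is_two_pretransitive_iff] at h ⊢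
        intro a b c d hab hcd
        obtain ⟨σ, h1, h2⟩ := h hab hcd
        obtain ⟨x, rfl⟩ := e.surjective σ
        exact ⟨x, by rw [← he]; exact h1, by rw [← he]; exact h2⟩
      have h3 := (Cfsg.Agent.S3972.result 2 m Nat.prime_two hm (by rw [← Nat.card_eq_fintype_card, hpm])
        (toPermHom X Ω).range htr' hnot' (e g) (by
          rw [← hog]; exact orderOf_injective e.toMonoidHom e.injective g)).1
      apply h3
      let f : Ω →ₑ[e] Ω :=
        { toFun := id
          map_smul' := fun x a => (he x a).symm }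
      exact IsPreprimitive.of_surjective (f := f) Function.surjective_id
    · rcases Cfsg.Agent.S3559.result (G := X) (Ω := Ω) htrX hn2 hpp Γ hcyc ⟨⟨fun a b => by
          obtain ⟨g, hg, h⟩ := htr a b
          exact ⟨⟨g, hg⟩, h⟩⟩, fun a => by
          rw [eq_bot_iff]
          intro g hg
          exact Subtype.ext (hsr g g.2 a hg)⟩ with h | h
      · exact absurd hprim h
      · exact h
  have h2 : ∀ a b c d : Ω, a ≠ b → c ≠ d → ∃ g : X, g • a = c ∧ g • b = d := by
    intro a b c d hab hcd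
    exact is_two_pretransitive_iff.1 h2t hab hcd
  have hyp : H12.Y2.Hyp Ω Γ := ⟨hfaith, h2, hev, hzg, hcyc, htr, hsr⟩
  have hconc := (hY X Ω Γ hyp).resolve_left hne2
  obtain ⟨r, hr⟩ : ∃ r, Nat.card Ω = r + 1 := ⟨Nat.card Ω - 1, by omega⟩
  have hrp : r.Prime := by
    have := hconc.prime
    rwa [hr, Nat.add_sub_cancel] at this
  have hrodd : r ≠ 2 := by
    rintro rfl
    rw [hr] at hev
    exact absurd hev (by decide)
  have hr3 : r ≠ 3 := by
    rintro rfl
    apply hns
    obtain ⟨b, hb⟩ : ∃ b : Ω, a0 ≠ b := by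
      have : Nontrivial Ω := Finite.one_lt_card_iff_nontrivial.1 (by omega)
      obtain ⟨b, hb⟩ := exists_ne a0
      exact ⟨b, hb.symm⟩
    have h1 := hconc.card a0 b hb
    rw [hr] at h1
    have hle := hcardX 4 hr
    have hdvd : Nat.card X ∣ 24 := by
      have h3 : Nat.card X ∣ Nat.card (Equiv.Perm Ω) :=
        card_dvd_of_injective (toPermHom X Ω) (MulAction.toPerm_injective)
      rw [Nat.card_perm, hr] at h3
      exact h3
    refine H4.Burnside.isSolvable_of_card_eq 2 3 Nat.prime_two Nat.prime_three (Nat.card X) X rfl ?_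
    have h4 : Nat.card X ∈ Nat.divisors 24 := Nat.mem_divisors.2 ⟨hdvd, by norm_num⟩
    have h5 : Nat.divisors 24 = {1, 2, 3, 4, 6, 8, 12, 24} := by decide
    rw [h5] at h4
    simp only [Finset.mem_insert, Finset.mem_singleton] at h4
    rcases h4 with h | h | h | h | h | h | h | h <;> rw [h]
    · exact ⟨0, 0, rfl⟩
    · exact ⟨1, 0, rfl⟩
    · exact ⟨0, 1, rfl⟩
    · exact ⟨2, 0, rfl⟩
    · exact ⟨1, 1, rfl⟩
    · exact ⟨3, 0, rfl⟩
    · exact ⟨2, 1, rfl⟩
    · exact ⟨3, 1, rfl⟩
  have hr4 : 3 < r := by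
    have := hrp.two_le
    omega
  exact ⟨r, isP_of_conc h2 hconc hr hr4, hr⟩

/-- S3252, given the theorem on 2-transitive groups -/
theorem s3252 (hY : H12.Y2.Y2T.{u, u}) {G : Type u} [Group G] [Finite G] (hG : ¬ Group.IsSolvable G)
    (A B : Subgroup G) (hA : IsCyclic ↥A) (hB : ∀ (q : ℕ) [Fact q.Prime] (Q : Sylow q ↥B), IsCyclic ↥(Q : Subgroup ↥B))
    (hAB : ∀ g : G, ∃ a ∈ A, ∃ b ∈ B, g = a * b)
    (R : Subgroup G) [hR : R.Normal] (hRs : Group.IsSolvable ↥R) (hRmax : ∀ N : Subgroup G, N.Normal → Group.IsSolvable ↥N → N ≤ R) :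
    ∃ (F : Type) (_ : Field F) (_ : Fintype F) (p : ℕ), p.Prime ∧ 3 < p ∧ Fintype.card F = p ∧
      Nonempty ((G ⧸ R) ≃* (GL (Fin 2) F ⧸ Subgroup.center (GL (Fin 2) F))) := by
  have hReq : R = H70.SolvRad.srad G :=
    le_antisymm (H70.SolvRad.le_srad hR hRs) (hRmax _ inferInstance H70.SolvRad.isSolvable_srad)
  subst hReq
  have hfac : Fac A B := ⟨hA, ⟨fun q hq Q => by
    have := Fact.mk hq
    exact hB q Q⟩, hAB⟩
  obtain ⟨p, ⟨hp, h3, F, i1, i2, hF, he⟩, -⟩ := main (hx hY) _ (G ⧸ H70.SolvRad.srad G) _ _ rfl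
    (hfac.map (QuotientGroup.mk' _) (QuotientGroup.mk'_surjective _)) (TR_srad hG)
  exact ⟨F, i1, i2, p, hp, h3, hF, he⟩

end H8.Y1
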